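import Cfsg.Agent.X4S75.BetaCase

/-!
The configuration β when `r` is conjugate to `t`: the group `⟨z, g, t, r, r', b, s⟩` of order 128
gives the subgroup of index two.
-/

namespace Cfsg.Agent.X4S75

/-- The elementary abelian group `⟨z, g, t⟩`. -/
structure V8 where
  z : Bool
  g : Bool
  t : Bool
deriving DecidableEq, Fintype

instance : Mul V8 := ⟨fun p q => ⟨Bool.xor p.z q.z, Bool.xor p.g q.g, Bool.xor p.t q.t⟩⟩

/-- The identity of `V8`. -/
def v0 : V8 := ⟨false, false, false⟩

/-- The embedding of `V8`. -/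
def emb (p : V8) : S32 := ⟨⟨p.z, false, false, p.g⟩, p.t⟩

/-- The action of `r`. -/
def θ2 (p : V8) : V8 := ⟨Bool.xor p.z p.t, p.g, p.t⟩

/-- `⟨z, g, t, r⟩` -/
abbrev L2 := Ext V8 θ2 v0

/-- The action of `r'`. -/
def θ3 : L2 → L2 :=
  Ext.act (fun p => ⟨⟨p.z, Bool.xor p.g p.t, p.t⟩, false⟩) ⟨⟨true, true, false⟩, true⟩

/-- `⟨z, g, t, r, r'⟩` -/
abbrev L3 := Ext L2 θ3 ⟨v0, false⟩

/-- The action of `b`. -/
def θ4 : L3 → L3 :=
  Ext.act (fun p => ⟨⟨⟨Bool.xor p.v.z p.v.g, p.v.g, p.v.t⟩, p.i⟩, false⟩)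
    ((⟨⟨v0, false⟩, true⟩ : L3) * ⟨⟨v0, true⟩, false⟩ * ⟨⟨⟨false, true, true⟩, false⟩, false⟩)

/-- `⟨z, g, t, r, r', b⟩` -/
abbrev L4 := Ext L3 θ4 ⟨⟨v0, false⟩, false⟩

/-- The identity of `L4`. -/
def e4 : L4 := ⟨⟨⟨v0, false⟩, false⟩, false⟩

/-- `⟨z, g, t, r, r', b, s⟩` -/
abbrev L5 := Ext L4 id e4

/-- An element of `⟨z, g⟩`. -/
def eV (z g : Bool) : L4 := ⟨⟨⟨⟨z, g, false⟩, false⟩, false⟩, false⟩
/-- `t` -/
def eT : L4 := ⟨⟨⟨⟨false, false, true⟩, false⟩, false⟩, false⟩
/-- `r` -/
def eR : L4 := ⟨⟨⟨v0, true⟩, false⟩, false⟩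
/-- `r'` -/
def eR' : L4 := ⟨⟨⟨v0, false⟩, true⟩, false⟩
/-- `r''` -/
def eR'' : L4 := eR' * eR * (eV false true * eT)
/-- `b` -/
def eB : L4 := ⟨⟨⟨v0, false⟩, false⟩, true⟩

/-- Conjugate to one of the known conjugates of `t`. -/
def PosB (y : L4) : Bool := decide (∃ w, w * y = (eB * eT) * w ∨ ∃ z g,
  w * y = (eV z g * eT) * w ∨ w * y = (eR * eV z g) * w ∨ w * y = (eR' * eV z g) * w ∨
    w * y = (eR'' * eV z g) * w)

/-- Conjugate to one of the known involutions of the complement. -/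
def NegB (y : L4) : Bool := decide (∃ w, ∃ z g, w * y = eV z g * w ∨ w * y = eB * w ∨
  w * y = (eV true false * eB) * w)

theorem exotic_split : ∀ y : L4, PosB y = true ∨ NegB y = true ∨ y * y ≠ e4 := by decide +kernel

theorem exotic_count : Fintype.card {y : L4 // PosB y = true} = 20 := by decide +kernel

theorem exotic_centre : ∀ u : L4, (∀ v, u * v = v * u) → u = e4 ∨ u = eV true false := by
  decide +kernel

theorem exotic_facts : (∀ p : V8, emb p = (if p.z then sz else se) * (if p.g then sg else se) *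
      (if p.t then st else se)) ∧ (∀ p q : V8, emb (p * q) = emb p * emb q) ∧
    (∀ u : V8, u * ⟨false, false, true⟩ ≠ ⟨true, false, true⟩ * u) ∧
    (∀ u : L2, u * ⟨⟨false, false, true⟩, false⟩ ≠ ⟨⟨false, true, true⟩, false⟩ * u) ∧
    (∀ u : L3, u * ⟨⟨⟨false, true, false⟩, false⟩, false⟩ ≠
      ⟨⟨⟨true, true, false⟩, false⟩, false⟩ * u) ∧
    Fintype.card L5 = 128 := by decide +kernel

theorem emb_injective : Function.Injective emb := by unfold Function.Injective; decide +kernel

theorem Ext.not_mem_of_central {α : Type} [Mul α] [Fintype α] {G : Type*} [Group G] {f : α → G}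
    {x : G} (hmul : ∀ v w, f (v * w) = f v * f w) (hinj : Function.Injective f)
    (hx : ∀ v, x * f v = f v * x) (h : ∀ u, (∀ v, u * v = v * u) → f u ≠ x) (v w : α) :
    f v * x ≠ f w := by
  intro e
  have hsurj : Function.Surjective (fun u => v * u) := Finite.surjective_of_injective fun a b hab => by
    have := congrArg f hab
    simp only [hmul, mul_right_inj] at this
    exact hinj this
  obtain ⟨u, rfl⟩ := hsurj w
  rw [hmul, mul_right_inj] at e
  exact h u (fun a => hinj (by rw [hmul, hmul, ← e, hx])) e.symm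

namespace Data

variable {G : Type*} [Group G] [Finite G] (D : Data G)

omit [Finite G] in
theorem conj_emb {y : G} {φ : V8 → S32} (hφ : ∀ p, φ p = (if p.z then φ ⟨true, false, false⟩ else se) *
      (if p.g then φ ⟨false, true, false⟩ else se) * (if p.t then φ ⟨false, false, true⟩ else se))
    (hz : y * D.sm sz = D.sm (φ ⟨true, false, false⟩) * y)
    (hg : y * D.sm sg = D.sm (φ ⟨false, true, false⟩) * y)
    (ht : y * D.sm st = D.sm (φ ⟨false, false, true⟩) * y) (p : V8) :
    y * D.sm (emb p) = D.sm (φ p) * y := by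
  have aux : ∀ (c : Bool) {v w : S32}, y * D.sm v = D.sm w * y →
      y * D.sm (if c then v else se) = D.sm (if c then w else se) * y := by
    intro c v w h; cases c
    · simp [D.sm_se]
    · exact h
  have step : ∀ {a a' b b' : S32}, y * D.sm a = D.sm a' * y → y * D.sm b = D.sm b' * y →
      y * D.sm (a * b) = D.sm (a' * b') * y := by
    intro a a' b b' h1 h2
    rw [D.sm_mul, ← mul_assoc, h1, mul_assoc, h2, ← mul_assoc, D.sm_mul]
  rw [exotic_facts.1 p, hφ p]
  exact step (step (aux p.z hz) (aux p.g hg)) (aux p.t ht)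

theorem index_two_exotic (hF : D.HasFlags Fβ) (R : NEl D) (hθ : ∀ v, R.θ v = θα false v)
    (h2 : R.n * R.n = 1) (hd : R.n * D.κ pD * R.n⁻¹ = D.κ pD) (hr : D.InF R.n) :
    ∃ H : Subgroup G, H.index = 2 := by
  classical
  obtain ⟨r', r'', hr'', hc, r'2, r't, r'z, r'g, r's, r''z, r''g, hb, hr'F, hr''F⟩ :=
    D.beta_split hF R hθ h2 hd hr
  set r := R.n with hr0
  have rconj : ∀ v, r * D.sm v = D.sm (θα false v) * r := fun v => by rw [hr0, R.conj, hθ]
  let f1 : V8 → G := fun p => D.sm (emb p)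
  have hmul1 : ∀ p q, f1 (p * q) = f1 p * f1 q := fun p q => by
    simp [f1, exotic_facts.2.1, D.sm_mul]
  have hinj1 : Function.Injective f1 := D.sm_injective.comp emb_injective
  have hf0 : f1 v0 = 1 := by
    show D.sm (emb v0) = 1
    rw [show emb v0 = se by decide +kernel, D.sm_se]
  -- `r`
  have hc2 : ∀ p, r * f1 p = f1 (θ2 p) * r := fun p => by
    show r * D.sm (emb p) = D.sm (emb (θ2 p)) * r
    rw [rconj, show θα false (emb p) = emb (θ2 p) by revert p; decide +kernel]
  have hs2 : r * r = f1 v0 := by rw [hf0, h2]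
  let f2 : L2 → G := Ext.toG f1 r
  have hmul2 : ∀ p q, f2 (p * q) = f2 p * f2 q := Ext.toG_mul hmul1 hc2 hs2
  have hinj2 : Function.Injective f2 := Ext.toG_injective hinj1
    (Ext.not_mem_of_conj hmul1 hinj1 ⟨false, false, true⟩ ⟨true, false, true⟩ (hc2 _)
      exotic_facts.2.2.1)
  have f2low : ∀ p, f2 ⟨p, false⟩ = f1 p := fun p => by simp [f2, Ext.toG]
  -- `r'`
  have rfix : Commute r (D.sm (sg * sz)) := by
    show r * D.sm (sg * sz) = D.sm (sg * sz) * r
    rw [rconj, show θα false (sg * sz) = sg * sz by decide +kernel]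
  have hr'r : r' * r = f2 ⟨⟨true, true, false⟩, true⟩ * r' := by
    have e : f2 ⟨⟨true, true, false⟩, true⟩ = D.sm (sg * sz) * r := by
      show f1 _ * (if true then r else 1) = _
      rw [show sg * sz = emb ⟨true, true, false⟩ by decide +kernel]; rfl
    rw [e, ← rfix.eq, ← hc]
    calc r' * r = r * r * (r' * r) * (r' * r') := by rw [h2, r'2]; group
      _ = _ := by group
  have hc3 : ∀ p, r' * f2 p = f2 (θ3 p) * r' := fun p =>
    Ext.act_conj hmul1 hc2 hs2 r' _ _
      (fun u => by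
        rw [show Ext.toG f1 r (⟨⟨u.z, Bool.xor u.g u.t, u.t⟩, false⟩ : L2) =
          D.sm (emb ⟨u.z, Bool.xor u.g u.t, u.t⟩) from f2low _]
        exact D.conj_emb (φ := fun p => emb ⟨p.z, Bool.xor p.g p.t, p.t⟩) (by decide +kernel)
          (by rw [show emb ⟨true, Bool.xor false false, false⟩ = sz by decide +kernel]; exact r'z.eq)
          (by rw [show emb ⟨false, Bool.xor true false, false⟩ = sg by decide +kernel]; exact r'g.eq)
          (by rw [show emb ⟨false, Bool.xor false true, true⟩ = sg * st by decide +kernel, D.sm_st]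
              exact r't) u)
      hr'r p
  have hs3 : r' * r' = f2 ⟨v0, false⟩ := by rw [f2low, hf0, r'2]
  let f3 : L3 → G := Ext.toG f2 r'
  have hmul3 : ∀ p q, f3 (p * q) = f3 p * f3 q := Ext.toG_mul hmul2 hc3 hs3
  have hinj3 : Function.Injective f3 := Ext.toG_injective hinj2
    (Ext.not_mem_of_conj hmul2 hinj2 ⟨⟨false, false, true⟩, false⟩ ⟨⟨false, true, true⟩, false⟩
      (by
        rw [f2low, f2low]
        show r' * D.sm (emb ⟨false, false, true⟩) = D.sm (emb ⟨false, true, true⟩) * r'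
        rw [show emb ⟨false, false, true⟩ = st by decide +kernel,
          show emb ⟨false, true, true⟩ = sg * st by decide +kernel, D.sm_st]
        exact r't) exotic_facts.2.2.2.1)
  have f3low : ∀ p, f3 ⟨p, false⟩ = f2 p := fun p => by simp [f3, Ext.toG]
  -- `b`
  set b := D.κ pB with hb0
  have hbsm : b = D.sm (sz * sa) := by
    rw [hb0, show sz * sa = (⟨kz * ka, false⟩ : S32) by decide +kernel, D.sm_false,
      kp_values.2.2.2.2.2.2]
  have hbr : b * r = r * b := by
    rw [hbsm, rconj, show θα false (sz * sa) = sz * sa by decide +kernel]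
  have hbconj : ∀ v, b * D.sm v = D.sm (sz * sa * v * (sz * sa)) * b := fun v => by
    rw [hbsm, ← D.sm_mul, ← D.sm_mul]
    congr 1; revert v; decide +kernel
  have hbr' : b * r' = f3 ((⟨⟨v0, false⟩, true⟩ : L3) * ⟨⟨v0, true⟩, false⟩ *
      ⟨⟨⟨false, true, true⟩, false⟩, false⟩) * b := by
    rw [hmul3, hmul3, hb, hr'', show sg * st = emb ⟨false, true, true⟩ by decide +kernel]
    simp [f3, f2, Ext.toG, hf0, f1]
  have hc4 : ∀ p, b * f3 p = f3 (θ4 p) * b := fun p =>
    Ext.act_conj hmul2 hc3 hs3 b _ _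
      (fun u => by
        obtain ⟨u, i⟩ := u
        rw [show Ext.toG f2 r' (⟨⟨⟨Bool.xor u.z u.g, u.g, u.t⟩, i⟩, false⟩ : L3) =
          f2 ⟨⟨Bool.xor u.z u.g, u.g, u.t⟩, i⟩ from f3low _]
        have e : b * f1 u = f1 ⟨Bool.xor u.z u.g, u.g, u.t⟩ * b := by
          show b * D.sm (emb u) = _
          rw [hbconj, show sz * sa * emb u * (sz * sa) = emb ⟨Bool.xor u.z u.g, u.g, u.t⟩ by
            revert u; decide +kernel]
        cases i
        · simp [f2, Ext.toG, e]
        · simp only [f2, Ext.toG, ↓reduceIte]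
          rw [← mul_assoc, e, mul_assoc, hbr, ← mul_assoc])
      hbr' p
  have hs4 : b * b = f3 ⟨⟨v0, false⟩, false⟩ := by
    rw [f3low, f2low, hf0, hb0, ← map_mul, show pB * pB = 1 by decide +kernel, map_one]
  let f4 : L4 → G := Ext.toG f3 b
  have hmul4 : ∀ p q, f4 (p * q) = f4 p * f4 q := Ext.toG_mul hmul3 hc4 hs4
  have hinj4 : Function.Injective f4 := Ext.toG_injective hinj3
    (Ext.not_mem_of_conj hmul3 hinj3 ⟨⟨⟨false, true, false⟩, false⟩, false⟩
      ⟨⟨⟨true, true, false⟩, false⟩, false⟩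
      (by
        rw [f3low, f3low, f2low, f2low]
        show b * D.sm (emb ⟨false, true, false⟩) = D.sm (emb ⟨true, true, false⟩) * b
        rw [hbconj, show sz * sa * emb ⟨false, true, false⟩ * (sz * sa) =
          emb ⟨true, true, false⟩ by decide +kernel]) exotic_facts.2.2.2.2.1)
  have he4 : f4 e4 = 1 := by simp [f4, f3, f2, Ext.toG, e4, hf0]
  -- values
  have hV : ∀ z g, f4 (eV z g) = D.sm (emb ⟨z, g, false⟩) := fun z g => by
    simp [f4, f3, f2, f1, Ext.toG, eV]
  have hT : f4 eT = D.t := by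
    have : emb ⟨false, false, true⟩ = st := by decide +kernel
    simp [f4, f3, f2, f1, Ext.toG, eT, this, D.sm_st]
  have hR : f4 eR = r := by simp [f4, f3, f2, Ext.toG, eR, hf0]
  have hR' : f4 eR' = r' := by simp [f4, f3, f2, Ext.toG, eR', hf0]
  have hR'' : f4 eR'' = r'' := by
    have : emb ⟨false, true, false⟩ = sg := by decide +kernel
    rw [eR'', hmul4, hmul4, hmul4, hR', hR, hV, hT, hr'', this, ← D.sm_st, ← D.sm_mul]
  have hB : f4 eB = b := by simp [f4, f3, f2, Ext.toG, eB, hf0]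
  -- the conjugates of `t`
  have hVk : ∀ z g, ∃ k : K, k * k = 1 ∧ D.sm (emb ⟨z, g, false⟩) = D.κ k := fun z g =>
    ⟨kp ⟨z, false, false, g⟩, by revert z g; decide +kernel, D.sm_false _⟩
  have hVF : ∀ (x : G), D.InF x → (∀ z g, Commute x (D.sm (emb ⟨z, g, false⟩))) →
      ∀ z g, D.InF (x * D.sm (emb ⟨z, g, false⟩)) := by
    intro x hx hc z g
    obtain ⟨k, hk, e⟩ := hVk z g
    exact D.inF_mul hF hx (by rw [e, ← map_mul, hk, map_one]) (by rw [e]; exact D.not_inF_κ hF hk)
      (hc z g)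
  have hcomm : ∀ (x : G), Commute x (D.sm sz) → Commute x (D.sm sg) →
      ∀ z g, Commute x (D.sm (emb ⟨z, g, false⟩)) := by
    intro x hz hg z g
    rw [exotic_facts.1, D.sm_mul, D.sm_mul]
    cases z <;> cases g <;> simp [D.sm_se, hz, hg, hz.mul_right hg]
  have hrz : Commute r (D.sm sz) := by
    show r * D.sm sz = D.sm sz * r
    rw [rconj, alpha_facts.2.2.1]
  have hrg : Commute r (D.sm sg) := by
    show r * D.sm sg = D.sm sg * r
    rw [rconj, alpha_facts.2.2.2.2.1]
  have pos : ∀ y, PosB y = true → D.InF (f4 y) := by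
    intro y hy
    obtain ⟨w, hw⟩ := of_decide_eq_true hy
    rcases hw with hw | ⟨z, g, hw | hw | hw | hw⟩ <;>
      rw [← D.inF_congr_model f4 hmul4 hw.symm, hmul4]
    · rw [hB, hT, hb0]; exact D.inF_κt hF (by decide +kernel)
    · rw [hV, hT]
      obtain ⟨k, hk, e⟩ := hVk z g
      rw [e]; exact D.inF_κt hF hk
    · rw [hR, hV]; exact hVF r hr (hcomm r hrz hrg) z g
    · rw [hR', hV]; exact hVF r' hr'F (hcomm r' r'z r'g) z g
    · rw [hR'', hV]; exact hVF r'' hr''F (hcomm r'' r''z r''g) z g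
  have neg : ∀ y, NegB y = true → ¬ D.InF (f4 y) := by
    intro y hy
    obtain ⟨w, z, g, hw⟩ := of_decide_eq_true hy
    rcases hw with hw | hw | hw <;> rw [← D.inF_congr_model f4 hmul4 hw.symm]
    · rw [hV]; obtain ⟨k, hk, e⟩ := hVk z g; rw [e]; exact D.not_inF_κ hF hk
    · rw [hB, hb0]; exact D.not_inF_κ hF (by decide +kernel)
    · rw [hmul4, hV, hB, hb0, show emb ⟨true, false, false⟩ = sz by decide +kernel, D.sm_z,
        ← map_mul]
      exact D.not_inF_κ hF (by decide +kernel)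
  have hiff : ∀ y, D.InF (f4 y) ↔ PosB y = true := fun y => by
    refine ⟨fun h => ?_, pos y⟩
    rcases exotic_split y with e | e | e
    · exact e
    · exact absurd h (neg y e)
    · exact absurd (hinj4 (by rw [hmul4, he4]; exact D.inF_sq h)) e
  -- `s`
  set s := D.κ pS with hs0
  have hss : s = D.sm ss := D.sm_s.symm
  have hsc1 : ∀ p, Commute s (f1 p) := fun p => by
    show s * D.sm (emb p) = D.sm (emb p) * s
    rw [hss, ← D.sm_mul, ← D.sm_mul]
    congr 1; revert p; decide +kernel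
  have hsr : Commute s r := by
    show s * r = r * s
    rw [hss, rconj, show θα false ss = ss from alpha_facts.2.2.2.2.2.2.1]
  have hsr' : Commute s r' := by rw [hss]; exact r's.symm
  have hsb : Commute s b := by
    show s * b = b * s
    rw [hs0, hb0, ← map_mul, ← map_mul, show pS * pB = pB * pS by decide +kernel]
  have aux : ∀ {x y : G} (c : Bool), Commute s x → Commute s y →
      Commute s (x * (if c then y else 1)) := by
    intro x y c hx hy; cases c
    · simpa using hx
    · exact hx.mul_right hy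
  have hsc : ∀ p, s * f4 p = f4 p * s := fun p =>
    (aux p.i (aux p.v.i (aux p.v.v.i (hsc1 _) hsr) hsr') hsb).eq
  have hs2' : s * s = f4 e4 := by
    rw [he4, hs0, ← map_mul, show pS * pS = 1 by decide +kernel, map_one]
  let f5 : L5 → G := Ext.toG f4 s
  have hmul5 : ∀ p q, f5 (p * q) = f5 p * f5 q := Ext.toG_mul hmul4 hsc hs2'
  have hinj5 : Function.Injective f5 := Ext.toG_injective hinj4
    (Ext.not_mem_of_central hmul4 hinj4 hsc fun u hu e => by
      rcases exotic_centre u hu with h | h <;> rw [h] at e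
      · rw [he4, hs0, ← map_one D.κ] at e
        exact absurd (D.inj e) (by decide +kernel)
      · rw [hV, show emb ⟨true, false, false⟩ = sz by decide +kernel, D.sm_z, hs0] at e
        exact absurd (D.inj e) (by decide +kernel))
  have hs1 : s * s = 1 := by rw [hs2', he4]
  have hsF : ¬ D.InF s := D.not_inF_κ hF (by decide +kernel)
  refine D.index_two_of_count f5 hinj5 hmul5 (fun v => v.i) (by
      intro v w; rcases v with ⟨v, i⟩; rcases w with ⟨w, j⟩; cases i <;> cases j <;> rfl)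
    ⟨e4, true⟩ rfl 1575 rfl ?_
  have e : {v : L5 // v.i = true ∧ D.InF (f5 v)} ≃ {y : L4 // PosB y = true} :=
    { toFun := fun v => ⟨v.1.v, (hiff _).1 (by
        have h := v.2.2
        have he : f5 v.1 = f4 v.1.v * s := by simp [f5, Ext.toG, v.2.1]
        rw [he] at h
        exact D.inF_of_mul hF hs1 hsF (hsc _).symm h)⟩
      invFun := fun y => ⟨⟨y.1, true⟩, rfl, by
        have he : f5 ⟨y.1, true⟩ = f4 y.1 * s := by simp [f5, Ext.toG]
        rw [he]
        exact D.inF_mul hF ((hiff _).2 y.2) hs1 hsF (hsc _).symm⟩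
      left_inv := fun v => by
        obtain ⟨⟨v, i⟩, hi, -⟩ := v
        simp only at hi; subst hi; rfl
      right_inv := fun _ => rfl }
  rw [Nat.card_congr e, Nat.card_eq_fintype_card, exotic_count, exotic_facts.2.2.2.2.2]

/-- The case β. -/
theorem index_two_exotic_or (hF : D.HasFlags Fβ) (R : NEl D) (hθ : ∀ v, R.θ v = θα false v)
    (h2 : R.n * R.n = 1) (hd : R.n * D.κ pD * R.n⁻¹ = D.κ pD) :
    (∃ H : Subgroup G, H.index = 2) ∨ ¬ D.InF R.n :=
  (Classical.em _).imp (D.index_two_exotic hF R hθ h2 hd) id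

end Data

end Cfsg.Agent.X4S75
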