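import Cfsg.Agent.X4S75.BetaNormal

/-!
The configuration β when the outer element `r` is not conjugate to `t`: the group `⟨sub32, r, q⟩`
of order 128 gives the subgroup of index two.
-/

namespace Cfsg.Agent.X4S75

/-- The action of `q` on `⟨sub32, r⟩`. -/
def θR (μ : Bool) : M64 false → M64 false :=
  Ext.act (fun v => ⟨φq v, false⟩) ⟨if μ then ss else se, true⟩

/-- The model of order 128. -/
abbrev M128 (μ : Bool) := Ext (M64 false) (θR μ) ⟨se, false⟩

/-- The character. -/
def ψR (μ : Bool) (v : M128 μ) : Bool := Bool.xor v.v.v.i v.v.i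

/-- The conjugates of `t` outside the kernel. -/
def goodR (μ : Bool) (v : M128 μ) : Bool := !v.i && !v.v.i && v.v.v.i && fl Fβ v.v.v

theorem ψR_mul : ∀ μ v w, ψR μ (v * w) = Bool.xor (ψR μ v) (ψR μ w) := by decide +kernel

theorem R_outer : ∀ μ, ∀ v : M128 μ, v.i = true → ψR μ v = true →
    v * v ≠ ⟨⟨se, false⟩, false⟩ ∨ ∃ k : K4, kp k * kp k = 1 ∧
      v * ⟨⟨⟨k, false⟩, false⟩, false⟩ = ⟨⟨⟨k, false⟩, false⟩, false⟩ * v ∧
      nComm (v * ⟨⟨⟨k, false⟩, false⟩, false⟩) = 64 := by decide +kernel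

theorem R_facts : (∀ u : M64 false, u * ⟨st, false⟩ ≠ ⟨sz * ss * st, false⟩ * u) ∧
    (∀ μ : Bool, Fintype.card (M128 μ) = 128) ∧
    (∀ μ : Bool, Fintype.card {v : M128 μ // ψR μ v = true ∧ goodR μ v = true} = 12) := by
  decide +kernel

theorem R_inner : ∀ u : S32, u.i = false → θα false u = u ∧ (u * u = se → kp u.v * kp u.v = 1) := by
  decide +kernel

namespace Data

variable {G : Type*} [Group G] [Finite G] (D : Data G)

theorem index_two_R (hF : D.HasFlags Fβ) (R Q : NEl D) (hθ : ∀ v, R.θ v = θα false v)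
    (h2 : R.n * R.n = 1) (hθq : ∀ v, Q.θ v = φq v) (hq2 : Q.n * Q.n = 1) {μ' : S32}
    (hμ' : μ' = se ∨ μ' = ss) (hμ : R.n * Q.n * (R.n * Q.n) = D.sm μ') (hr : ¬ D.InF R.n) :
    ∃ H : Subgroup G, H.index = 2 := by
  classical
  obtain ⟨μ, rfl⟩ : ∃ μ : Bool, (if μ then ss else se) = μ' := by
    rcases hμ' with h | h
    · exact ⟨false, h.symm⟩
    · exact ⟨true, h.symm⟩
  let f₁ : M64 false → G := Ext.toG D.sm R.n
  have hconj : ∀ v, R.n * D.sm v = D.sm (θα false v) * R.n := fun v => by rw [R.conj, hθ]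
  have hsq : R.n * R.n = D.sm se := by rw [D.sm_se, h2]
  have hmul₁ : ∀ v w, f₁ (v * w) = f₁ v * f₁ w := Ext.toG_mul D.sm_mul hconj hsq
  have hinj₁ : Function.Injective f₁ := Ext.toG_injective D.sm_injective
    (Ext.not_mem_of_conj D.sm_mul D.sm_injective st (sz * st)
      (by rw [hconj, alpha_facts.2.2.2.2.2.1]) alpha_facts.2.2.2.2.2.2.2.2)
  have he₁ : f₁ ⟨se, false⟩ = 1 := by simp [f₁, Ext.toG, D.sm_se]
  have hlow : ∀ u, f₁ ⟨u, false⟩ = D.sm u := fun u => by simp [f₁, Ext.toG]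
  have hqr : Q.n * R.n = f₁ ⟨if μ then ss else se, true⟩ * Q.n := by
    have hfix : θα false (if μ then ss else se) = (if μ then ss else se) := by
      clear hμ hμ'; revert μ; decide +kernel
    have e : R.n * D.sm (if μ then ss else se) = D.sm (if μ then ss else se) * R.n := by
      rw [hconj, hfix]
    have : f₁ ⟨if μ then ss else se, true⟩ = R.n * D.sm (if μ then ss else se) := by
      simp [f₁, Ext.toG, e]
    rw [this, ← hμ]
    calc Q.n * R.n = R.n * R.n * (Q.n * R.n) * (Q.n * Q.n) := by rw [h2, hq2]; group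
      _ = _ := by group
  have hconj₂ : ∀ v, Q.n * f₁ v = f₁ (θR μ v) * Q.n := fun v =>
    Ext.act_conj D.sm_mul hconj hsq Q.n _ _
      (fun u => by rw [Q.conj, hθq]; simp [Ext.toG]) hqr v
  let f : M128 μ → G := Ext.toG f₁ Q.n
  have hmul : ∀ v w, f (v * w) = f v * f w :=
    Ext.toG_mul hmul₁ hconj₂ (by rw [he₁, hq2])
  have hinj : Function.Injective f := Ext.toG_injective hinj₁
    (Ext.not_mem_of_conj hmul₁ hinj₁ ⟨st, false⟩ ⟨sz * ss * st, false⟩
      (by rw [hlow, hlow, Q.conj, hθq, show φq st = sz * ss * st by decide +kernel]) R_facts.1)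
  have he : f ⟨⟨se, false⟩, false⟩ = 1 := by simp [f, Ext.toG, he₁]
  have key : ∀ v : M128 μ, ψR μ v = true → (D.InF (f v) ↔ goodR μ v = true) := by
    rintro ⟨⟨u, i⟩, j⟩ hψ
    cases j
    · have hf : f ⟨⟨u, i⟩, false⟩ = f₁ ⟨u, i⟩ := by simp [f, Ext.toG]
      rw [hf]
      cases i
      · have hi : u.i = true := by simpa [ψR] using hψ
        rw [hlow, D.inF_sm hF]; simp [goodR, hi]
      · have hi : u.i = false := by simpa [ψR] using hψ
        obtain ⟨hfix, hinv⟩ := R_inner u hi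
        have hg : goodR μ ⟨⟨u, true⟩, false⟩ = false := by simp [goodR]
        rw [hg]
        simp only [Bool.false_eq_true, iff_false]
        intro hc
        have e1 : f₁ ⟨u, true⟩ = D.sm u * R.n := by simp [f₁, Ext.toG]
        have hcomm : Commute R.n (D.sm u) := by
          show R.n * D.sm u = D.sm u * R.n
          rw [hconj, hfix]
        rw [e1, ← hcomm.eq] at hc
        have huu : D.sm u * D.sm u = 1 := by
          have := D.inF_sq hc
          rwa [show R.n * D.sm u * (R.n * D.sm u) = R.n * (D.sm u * R.n) * D.sm u by group,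
            ← hcomm.eq, show R.n * (R.n * D.sm u) * D.sm u = R.n * R.n * (D.sm u * D.sm u) by group,
            h2, one_mul] at this
        have hk : kp u.v * kp u.v = 1 := hinv (D.sm_injective (by rw [D.sm_mul, huu, D.sm_se]))
        have hu : D.sm u = D.κ (kp u.v) := by
          obtain ⟨v, iv⟩ := u; simp only at hi; subst hi; exact D.sm_false v
        exact hr (D.inF_of_mul hF huu (hu ▸ D.not_inF_κ hF hk) hcomm hc)
    · have hg : goodR μ ⟨⟨u, i⟩, true⟩ = false := by simp [goodR]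
      rw [hg]
      simp only [Bool.false_eq_true, iff_false]
      intro hc
      rcases R_outer μ ⟨⟨u, i⟩, true⟩ rfl hψ with h | ⟨k, hk, hcomm, h⟩
      · exact h (hinj (by rw [hmul, he]; exact D.inF_sq hc))
      · have hy : f ⟨⟨⟨k, false⟩, false⟩, false⟩ = D.κ (kp k) := by
          simp [f, f₁, Ext.toG, D.sm_false]
        refine D.not_inF_of_nComm f hinj hmul _ he _ h ?_
        rw [hmul, hy]
        exact D.inF_mul hF hc (by rw [← map_mul, hk, map_one]) (D.not_inF_κ hF hk)
          (by rw [← hy]; show _ * _ = _ * _; rw [← hmul, ← hmul, hcomm])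
  refine D.index_two_of_count f hinj hmul (ψR μ) (ψR_mul μ) ⟨⟨st, false⟩, false⟩ rfl 945 rfl ?_
  rw [Nat.card_congr (Equiv.subtypeEquivRight fun v => and_congr_right (key v)),
    Nat.card_eq_fintype_card, R_facts.2.2 μ, R_facts.2.1 μ]

end Data

end Cfsg.Agent.X4S75
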