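import Cfsg.Agent.X4S75.Tools

/-!
The configuration in which only `tz` is fused to `t`: the group `⟨sub32, r⟩` of order 64 gives the
subgroup of index two.
-/

namespace Cfsg.Agent.X4S75

/-- The action of the outer element in the case α. -/
def θα (ε : Bool) (v : S32) : S32 :=
  ⟨⟨Bool.xor (Bool.xor v.v.z v.i) (ε && v.v.s), v.v.s, v.v.a, v.v.g⟩, v.i⟩

/-- The model of order 64. -/
abbrev M64 (ε : Bool) := Ext S32 (θα ε) se

/-- Four bits. -/
structure Quad where
  b0 : Bool
  b1 : Bool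
  b2 : Bool
  b3 : Bool
deriving DecidableEq, Fintype

/-- Reading a bit. -/
def Quad.get (Q : Quad) (a g : Bool) : Bool :=
  match a, g with
  | false, false => Q.b0
  | false, true => Q.b1
  | true, false => Q.b2
  | true, true => Q.b3

/-- The representative of a class of outer involutions. -/
def repα (ε s a g : Bool) : M64 ε := ⟨⟨⟨false, s, a, g⟩, Bool.xor (a && g) (ε && s)⟩, true⟩

/-- A candidate for the set of conjugates of `t`. -/
def pfα (ε : Bool) (Q₀ Q₁ : Quad) (v : M64 ε) : Bool :=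
  if v.i then decide (v * v = ⟨se, false⟩) && (if v.v.v.s then Q₁ else Q₀).get v.v.v.a v.v.v.g else fl Fα v.v

/-- The two characters used. -/
def ψα (ε : Bool) (j : Bool) (v : M64 ε) : Bool := Bool.xor v.v.i (j && v.i)

theorem ψα_mul : ∀ ε j v w, ψα ε j (v * w) = Bool.xor (ψα ε j v) (ψα ε j w) := by decide +kernel

theorem ψα_ne : ∀ ε j, ψα ε j ⟨st, false⟩ = true := by decide +kernel

theorem rep_conj : ∀ ε, ∀ v : M64 ε, v.i = true → v * v = ⟨se, false⟩ →
    v = repα ε v.v.v.s v.v.v.a v.v.v.g ∨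
      v * ⟨st, false⟩ = ⟨st, false⟩ * repα ε v.v.v.s v.v.v.a v.v.v.g := by decide +kernel

theorem countα : ∀ ε Q₀ Q₁,
    (∀ v : M64 ε, pfα ε Q₀ Q₁ v = true → nComm v = 32 →
      Fintype.card {w : M64 ε // w * v = v * w ∧ pfα ε Q₀ Q₁ w = true} = 6) →
    ∃ j, Fintype.card {v : M64 ε // ψα ε j v = true ∧ pfα ε Q₀ Q₁ v = true} % 4 = 2 := by
  decide +kernel

theorem alpha_facts : (∀ ε, ∀ v w, θα ε (v * w) = θα ε v * θα ε w) ∧ (∀ ε, θα ε se = se) ∧
    (∀ ε, θα ε sz = sz) ∧ (∀ ε, θα ε sa = sa) ∧ (∀ ε, θα ε sg = sg) ∧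
    (∀ ε, θα ε st = sz * st) ∧ θα false ss = ss ∧ θα true ss = sz * ss ∧
    (∀ u : S32, u * st ≠ sz * st * u) := by decide +kernel

theorem θα_facts : ∀ ε, (∀ v, θα ε (θα ε v) = v) ∧ θα ε st ≠ st ∧ θα ε (sz * st) ≠ sz * st ∧
    θα ε (sz * st) = st := by decide +kernel

theorem alpha_cases :
    (∀ u : S32, ¬ Cent u → fl Fα u = true → sz * st * u = sg ∨ sz * st * u = sz * sg ∨
      sz * st * u = sa * ss ∨ sz * st * u = sz * (sa * ss)) := by decide +kernel

theorem alpha_cases_a :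
    (∀ ws wg u : S32, (ws = ss ∨ ws = sz * ss) → (wg = sg ∨ wg = sz * sg) → u * u = se →
      u * wg ≠ wg * u → fl Fα (sz * st * u * ws) = true → u = sa ∨ u = sz * sa) := by
  decide +kernel

theorem alpha_elts :
    fl Fα (sz * st) = true ∧ fl Fα (st * sg) = true ∧ fl Fα (st * sa * ss) = true ∧
    ¬ Cent (st * sg) ∧ sa * sa = se ∧ sa * sg ≠ sg * sa ∧ st * (st * sg) = sg ∧
    Cent (sz * st) ∧
    Fintype.card {u : S32 // fl Fα u = true} = 6 := by decide +kernel

theorem k_facts : Commute pD pZ ∧ Commute pD pG ∧ Commute pD pA ∧ kp ⟨false, true, true, false⟩ = pA * pS ∧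
    kp ⟨true, true, true, false⟩ = pZ * (pA * pS) ∧ pZ * pZ = 1 ∧ pD * pD * (pD * pD) = pD ∧
    ¬ Commute pG pA ∧ ¬ Commute (pG * pZ) pA ∧ pZ ≠ 1 := by
  unfold Commute SemiconjBy; decide +kernel

namespace Data

variable {G : Type*} [Group G] [Finite G] (D : Data G)

theorem alpha_adjust (ε : Bool) (N₁ : NEl D) (hN₁ : ∀ v, N₁.θ v = θα ε v) :
    ∃ N : NEl D, (∀ v, N.θ v = θα ε v) ∧ N.n * N.n = 1 ∧ N.n * D.κ pD * N.n⁻¹ = D.κ pD := by
  -- fix `d`
  obtain ⟨N₂, hN₂, hd₂⟩ : ∃ N₂ : NEl D, (∀ v, N₂.θ v = θα ε v) ∧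
      N₂.n * D.κ pD * N₂.n⁻¹ = D.κ pD := by
    set c₁ := N₁.n * D.κ pD * N₁.n⁻¹ with hc₁
    have hz₁ := N₁.commute_conj (D.commute_κ_sm pD kz false (by rw [kp_values.2.1]; exact k_facts.1))
    have hg₁ := N₁.commute_conj (D.commute_κ_sm pD kg false (by rw [kp_values.2.2.2.2.1]; exact k_facts.2.1))
    have ht₁ := N₁.commute_conj (D.commute_κ_sm pD k0 true (by rw [kp_values.1]; exact Commute.one_right _))
    rw [hN₁, ← hc₁] at hz₁ hg₁ ht₁
    rw [show θα ε (⟨kz, false⟩ : S32) = sz from alpha_facts.2.2.1 ε] at hz₁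
    rw [show θα ε (⟨kg, false⟩ : S32) = sg from alpha_facts.2.2.2.2.1 ε] at hg₁
    rw [show θα ε (⟨k0, true⟩ : S32) = sz * st from alpha_facts.2.2.2.2.2.1 ε, D.sm_mul] at ht₁
    have hct₁ : Commute c₁ D.t := by
      have := hz₁.mul_right ht₁
      rwa [← mul_assoc, ← D.sm_mul, show sz * sz = se by decide +kernel, D.sm_se, one_mul, D.sm_st]
        at this
    obtain ⟨k₁, hk₁, hk₁3⟩ := D.cube_mem hct₁
      (N₁.conj_cube (by rw [← map_mul, ← map_mul, d_facts.1, map_one]))
    rw [hk₁] at hz₁ hg₁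
    have hzk := D.commute_of_κ (v := kz) hz₁
    have hgk := D.commute_of_κ (v := kg) hg₁
    rw [kp_values.2.1] at hzk
    rw [kp_values.2.2.2.2.1] at hgk
    rcases cube_cent_zg k₁ hzk hgk hk₁3 with h | h | h
    · exfalso
      rw [h, map_one] at hk₁
      have : D.κ pD = 1 := by
        have := congrArg (fun u => N₁.n⁻¹ * u * N₁.n) hk₁
        simpa [hc₁, mul_assoc] using this
      exact d_facts.2.1 (D.inj (this.trans (map_one _).symm))
    · exact ⟨N₁, hN₁, hk₁.trans (by rw [h])⟩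
    · refine ⟨N₁.comp (D.inner ss), fun v => ?_, ?_⟩
      · rw [NEl.comp_θ]; show N₁.θ (ss * v * (ss * ss * ss)) = _
        rw [inner_facts.2.2, hN₁]
      · show N₁.n * D.sm ss * D.κ pD * (N₁.n * D.sm ss)⁻¹ = _
        rw [D.sm_s, mul_inv_rev,
          show N₁.n * D.κ pS * D.κ pD * ((D.κ pS)⁻¹ * N₁.n⁻¹) =
            N₁.n * (D.κ pS * D.κ pD * (D.κ pS)⁻¹) * N₁.n⁻¹ by group,
          ← map_inv, ← map_mul, ← map_mul, d_facts.2.2.2.2.2.1, map_mul,
          show N₁.n * (D.κ pD * D.κ pD) * N₁.n⁻¹ = c₁ * c₁ by rw [hc₁]; group,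
          hk₁, h, ← map_mul, k_facts.2.2.2.2.2.2.1]
  -- the square
  have hsqθ : ∀ v, (N₂.comp N₂).θ v = v := fun v => by
    rw [NEl.comp_θ, hN₂, hN₂]; exact (θα_facts ε).1 v
  set e := N₂.n * N₂.n with he
  have het : e * D.t = D.t * e := (N₂.comp N₂).n_comm_of_fix (hsqθ st)
  obtain ⟨m, hm⟩ := D.cover e het
  have hcomm : ∀ v : K4, Commute m (kp v) := by
    intro v
    have h := (N₂.comp N₂).conj ⟨v, false⟩
    rw [hsqθ] at h
    change Commute e (D.sm ⟨v, false⟩) at h
    rcases hm with hm | hm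
    · rw [hm] at h; exact D.commute_of_κ h
    · rw [hm] at h
      refine D.commute_of_κ (i := false) ?_
      have hh : Commute D.t (D.sm ⟨v, false⟩) := (D.sm_comm_t _).symm
      have := h.mul_left hh
      rwa [mul_assoc, D.sq, mul_one] at this
  have hmd : Commute m pD := by
    have h : Commute e (D.κ pD) := by
      show e * D.κ pD = D.κ pD * e
      have h1 : N₂.n * D.κ pD = D.κ pD * N₂.n := by
        have := congrArg (· * N₂.n) hd₂; simpa [mul_assoc] using this
      rw [he, mul_assoc, h1, ← mul_assoc, h1, mul_assoc]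
    rcases hm with hm | hm
    · rw [hm] at h; exact D.inj (by rw [map_mul, map_mul]; exact h.eq)
    · rw [hm] at h
      have := h.mul_left (D.commute_κ_t pD).symm
      rw [mul_assoc, D.sq, mul_one] at this
      exact D.inj (by rw [map_mul, map_mul]; exact this.eq)
  have hm1 : m = 1 ∨ m = pZ := by
    have hz' := hcomm kz
    have hg' := hcomm kg
    have hs' := hcomm ks
    have ha' := hcomm ka
    rw [kp_values.2.1] at hz'
    rw [kp_values.2.2.2.2.1] at hg'
    rw [kp_values.2.2.1] at hs'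
    rw [kp_values.2.2.2.1] at ha'
    rcases cent_zgsd m hz' hg' hs' hmd with h | h | h | h
    · exact Or.inl h
    · exact Or.inr h
    · exact absurd (h ▸ ha') k_facts.2.2.2.2.2.2.2.1
    · exact absurd (h ▸ ha') k_facts.2.2.2.2.2.2.2.2.1
  have hm' : e = D.κ m := by
    rcases hm with hm | hm
    · exact hm
    · exfalso
      have h1 : N₂.n * e = e * N₂.n := by rw [he, mul_assoc]
      obtain ⟨v, hv⟩ : ∃ v : S32, e = D.sm v ∧ θα ε v ≠ v := by
        rcases hm1 with h | h
        · exact ⟨st, by rw [hm, h, map_one, one_mul, D.sm_st], (θα_facts ε).2.1⟩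
        · exact ⟨sz * st, by rw [hm, h, D.sm_mul, D.sm_z, D.sm_st], (θα_facts ε).2.2.1⟩
      rw [hv.1, N₂.conj, hN₂] at h1
      exact hv.2 (D.sm_injective (mul_right_cancel h1))
  rcases hm1 with h | h
  · exact ⟨N₂, hN₂, by rw [← he, hm', h, map_one], hd₂⟩
  · refine ⟨N₂.comp (D.inner st), fun v => ?_, ?_, ?_⟩
    · rw [NEl.comp_θ]; show N₂.θ (st * v * (st * st * st)) = _
      rw [inner_facts.2.1, hN₂]
    · show N₂.n * D.sm st * (N₂.n * D.sm st) = 1
      have h1 := N₂.conj (sz * st)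
      rw [hN₂, (θα_facts ε).2.2.2] at h1
      calc N₂.n * D.sm st * (N₂.n * D.sm st)
          = N₂.n * (D.sm st * N₂.n) * D.sm st := by group
        _ = N₂.n * (N₂.n * D.sm (sz * st)) * D.sm st := by rw [← h1]
        _ = e * (D.sm (sz * st) * D.sm st) := by rw [he]; group
        _ = 1 := by
          rw [← D.sm_mul, show sz * st * st = sz by decide +kernel, D.sm_z, hm', h, ← map_mul,
            k_facts.2.2.2.2.2.1, map_one]
    · show N₂.n * D.sm st * D.κ pD * (N₂.n * D.sm st)⁻¹ = _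
      rw [D.sm_st, mul_assoc N₂.n, D.comm,
        show N₂.n * (D.κ pD * D.t) * (N₂.n * D.t)⁻¹ = N₂.n * D.κ pD * N₂.n⁻¹ by group, hd₂]

theorem alpha_nel (hF : D.HasFlags Fα) : ∃ (N : NEl D) (ε : Bool), (∀ v, N.θ v = θα ε v) ∧
    N.n * N.n = 1 := by
  have hA := alpha_cases
  have hB := alpha_cases_a
  obtain ⟨f1, f2, f3, hnc, haa, hag, htg, hczt, -⟩ := alpha_elts
  obtain ⟨N, hN⟩ := D.exists_nel hczt ((D.inF_sm hF _).2 f1)
  -- the image of `s`
  have hs : N.θ ss = ss ∨ N.θ ss = sz * ss := by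
    have h2 : (N.comp N).θ st = st := by
      rw [NEl.comp_θ, hN, N.θ_mul, N.θ_sz, hN]; decide +kernel
    have h3 := (N.comp N).fix_ss h2
    rw [NEl.comp_θ] at h3
    have hfl := N.fl_eq hF ss
    rcases cent_cases _ (N.θ_cent s32_facts.2.2.2.2.2.2.1) with h | h | h | h | h | h | h | h
    · exact absurd (N.θ_injective (h.trans N.θ_se.symm)) (by decide +kernel)
    · exact absurd (N.θ_injective (h.trans N.θ_sz.symm)) (by decide +kernel)
    · exact Or.inl h
    · exact Or.inr h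
    all_goals
      exfalso
      simp only [N.θ_mul, N.θ_sz, h, hN] at h3
      exact absurd h3 (by decide +kernel)
  -- the image of `g`
  set c := N.n * D.κ pD * N.n⁻¹ with hcdef
  have hc3 : c * c * c = 1 := N.conj_cube (by rw [← map_mul, ← map_mul, d_facts.1, map_one])
  have hct : Commute c D.t := by
    have h1 := N.commute_conj (D.commute_κ_sm pD kz false (by rw [kp_values.2.1]; exact k_facts.1))
    have h2 := N.commute_conj (D.commute_κ_sm pD k0 true (by rw [kp_values.1]; exact Commute.one_right _))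
    have e1 : N.θ (⟨kz, false⟩ : S32) = sz := N.θ_sz
    have e2 : N.θ (⟨k0, true⟩ : S32) = sz * st := hN
    rw [e1] at h1
    rw [e2, D.sm_mul] at h2
    have := h1.mul_right h2
    rwa [← mul_assoc, ← D.sm_mul, show sz * sz = se by decide +kernel, D.sm_se, one_mul, D.sm_st]
      at this
  obtain ⟨k, hck, hk3⟩ := D.cube_mem hct hc3
  have hkne : k ≠ 1 := by
    intro h
    rw [h, map_one] at hck
    have : D.κ pD = 1 := by
      have := congrArg (fun u => N.n⁻¹ * u * N.n) hck
      simpa [hcdef, mul_assoc] using this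
    exact d_facts.2.1 (D.inj (this.trans (map_one _).symm))
  have hkz : Commute k pZ := by
    have h1 := N.commute_conj (D.commute_κ_sm pD kz false (by rw [kp_values.2.1]; exact k_facts.1))
    rw [show N.θ (⟨kz, false⟩ : S32) = sz from N.θ_sz, ← hcdef, hck] at h1
    have := D.commute_of_κ (v := kz) h1
    rwa [kp_values.2.1] at this
  have hkg0 := N.commute_conj (D.commute_κ_sm pD kg false (by rw [kp_values.2.2.2.2.1]; exact k_facts.2.1))
  rw [← hcdef, hck] at hkg0
  have hg : N.θ sg = sg ∨ N.θ sg = sz * sg := by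
    have h1 : N.θ sg = sz * st * N.θ (st * sg) := by rw [← hN, ← N.θ_mul, htg]
    rcases hA _ (D.not_cent_of_θ N hnc) ((N.fl_eq hF _).trans f2) with h | h | h | h
    · exact Or.inl (h1.trans h)
    · exact Or.inr (h1.trans h)
    all_goals
      exfalso
      have e := h1.trans h
      rw [show (⟨kg, false⟩ : S32) = sg from rfl, e] at hkg0
    · have := D.commute_of_κ (v := ⟨false, true, true, false⟩) (i := false)
        (by rwa [show (⟨⟨false, true, true, false⟩, false⟩ : S32) = sa * ss by decide +kernel])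
      rw [k_facts.2.2.2.1] at this
      exact hkne ((no_cube k hk3).2.1 hkz this)
    · have := D.commute_of_κ (v := ⟨true, true, true, false⟩) (i := false)
        (by rwa [show (⟨⟨true, true, true, false⟩, false⟩ : S32) = sz * (sa * ss) by decide +kernel])
      rw [k_facts.2.2.2.2.1] at this
      have h2 := hkz.mul_right this
      rw [← mul_assoc, k_facts.2.2.2.2.2.1, one_mul] at h2
      exact hkne ((no_cube k hk3).2.1 hkz h2)
  -- the image of `a`
  have ha : N.θ sa = sa ∨ N.θ sa = sz * sa := by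
    refine hB _ _ _ hs hg (by rw [← N.θ_mul, haa, N.θ_se]) ?_ ?_
    · rw [← N.θ_mul, ← N.θ_mul]; exact fun h => hag (N.θ_injective h)
    · rw [← hN, ← N.θ_mul, ← N.θ_mul, N.fl_eq hF, f3]
  -- fix `g`, `a`
  obtain ⟨ε, hε⟩ : ∃ ε, N.θ ss = θα ε ss := by
    rcases hs with h | h
    · exact ⟨false, h.trans alpha_facts.2.2.2.2.2.2.1.symm⟩
    · exact ⟨true, h.trans alpha_facts.2.2.2.2.2.2.2.1.symm⟩
  obtain ⟨N₁, hN₁⟩ : ∃ N₁ : NEl D, ∀ v, N₁.θ v = θα ε v := by
    obtain ⟨m, hm₁, hm₂⟩ : ∃ m : S32, m * N.θ sg * (m * m * m) = sg ∧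
        m * N.θ sa * (m * m * m) = sa := by
      rcases hg with hg | hg <;> rcases ha with ha | ha <;> rw [hg, ha]
      · exact ⟨se, by decide +kernel⟩
      · exact ⟨sg, by decide +kernel⟩
      · exact ⟨sa, by decide +kernel⟩
      · exact ⟨sa * sg, by decide +kernel⟩
    refine ⟨(D.inner m).comp N, NEl.θ_eq_of_gens _ _ (alpha_facts.1 ε) (alpha_facts.2.1 ε)
      (alpha_facts.2.2.1 ε) ?_ ?_ ?_ ?_⟩
    · rw [NEl.comp_θ, hε]
      have : ∀ m v : S32, Cent v → m * v * (m * m * m) = v := by decide +kernel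
      have hc : ∀ ε, Cent (θα ε ss) := by decide +kernel
      exact this m _ (hc ε)
    · rw [NEl.comp_θ, alpha_facts.2.2.2.1]; exact hm₂
    · rw [NEl.comp_θ, alpha_facts.2.2.2.2.1]; exact hm₁
    · rw [NEl.comp_θ, hN, alpha_facts.2.2.2.2.2.1]
      have : ∀ m v : S32, Cent v → m * v * (m * m * m) = v := by decide +kernel
      exact this m _ hczt
  obtain ⟨N₂, h₂, hsq, -⟩ := D.alpha_adjust ε N₁ hN₁
  exact ⟨N₂, ε, h₂, hsq⟩

/-- The case α. -/
theorem index_two_α (hF : D.HasFlags Fα) : ∃ H : Subgroup G, H.index = 2 := by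
  classical
  obtain ⟨N, ε, hθ, hsq⟩ := D.alpha_nel hF
  let f : M64 ε → G := Ext.toG D.sm N.n
  have hconj : ∀ v, N.n * D.sm v = D.sm (θα ε v) * N.n := fun v => by rw [N.conj, hθ]
  have hmul : ∀ v w, f (v * w) = f v * f w :=
    Ext.toG_mul D.sm_mul hconj (by rw [D.sm_se, hsq])
  have hinj : Function.Injective f := Ext.toG_injective D.sm_injective
    (Ext.not_mem_of_conj D.sm_mul D.sm_injective st (sz * st)
      (by rw [hconj, alpha_facts.2.2.2.2.2.1]) alpha_facts.2.2.2.2.2.2.2.2)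
  have he : f ⟨se, false⟩ = 1 := by simp [f, Ext.toG, D.sm_se]
  have hlow : ∀ u, f ⟨u, false⟩ = D.sm u := fun u => by simp [f, Ext.toG]
  let b : Bool → Bool → Bool → Bool := fun s a g => decide (D.InF (f (repα ε s a g)))
  let Q₀ : Quad := ⟨b false false false, b false false true, b false true false, b false true true⟩
  let Q₁ : Quad := ⟨b true false false, b true false true, b true true false, b true true true⟩
  have hQ : ∀ s a g, (if s then Q₁ else Q₀).get a g = b s a g := by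
    intro s a g; cases s <;> cases a <;> cases g <;> rfl
  have key : ∀ v : M64 ε, D.InF (f v) ↔ pfα ε Q₀ Q₁ v = true := by
    rintro ⟨u, i⟩
    cases i
    · rw [hlow, D.inF_sm hF]; simp [pfα]
    · by_cases h2 : (⟨u, true⟩ : M64 ε) * ⟨u, true⟩ = ⟨se, false⟩
      · have : D.InF (f (⟨u, true⟩ : M64 ε)) ↔ D.InF (f (repα ε u.v.s u.v.a u.v.g)) := by
          rcases rep_conj ε ⟨u, true⟩ rfl h2 with h | h
          · exact iff_of_eq (congrArg (fun x => D.InF (f x)) h)
          · exact D.inF_congr_model f hmul h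
        rw [this]
        simp [pfα, h2, hQ, b]
      · simp only [pfα, ↓reduceIte, h2, decide_false, Bool.false_and, Bool.false_eq_true, iff_false]
        intro hc
        exact h2 (hinj (by rw [hmul, he]; exact D.inF_sq hc))
  have h6 : Nat.card {u : S32 // D.InF (D.sm u)} = 6 := by
    rw [Nat.card_congr (Equiv.subtypeEquivRight (D.inF_sm hF)), Nat.card_eq_fintype_card]
    exact alpha_elts.2.2.2.2.2.2.2.2
  obtain ⟨j, hj⟩ := countα ε Q₀ Q₁ fun v hv h32 => by
    rw [← Nat.card_eq_fintype_card, ← h6, ← D.card_inF_comm f hinj hmul _ he v h32 ((key v).2 hv)]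
    exact Nat.card_congr (Equiv.subtypeEquivRight fun w => and_congr_right fun _ => (key w).symm)
  set n := Fintype.card {v : M64 ε // ψα ε j v = true ∧ pfα ε Q₀ Q₁ v = true} with hn
  refine D.index_two_of_count f hinj hmul (ψα ε j) (ψα_mul ε j) _ (ψα_ne ε j) (315 * (n / 2))
    (by rw [Nat.mul_mod]; omega) ?_
  have hc : Nat.card {v : M64 ε // ψα ε j v = true ∧ D.InF (f v)} = n := by
    rw [Nat.card_congr (Equiv.subtypeEquivRight fun v => and_congr_right fun _ => key v),
      Nat.card_eq_fintype_card]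
  have h64 : Fintype.card (M64 ε) = 64 := by clear! n; cases ε <;> decide +kernel
  rw [hc, h64]
  omega

end Data

end Cfsg.Agent.X4S75
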