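import Cfsg.Agent.X4S75.BetaNormal

/-!
The configuration β: the conjugates `r', r''` of `r` under an element of order three.
-/

namespace Cfsg.Agent.X4S75

theorem conj_step {G : Type*} [Group G] {r ρ a b a' b' : G} (h : r * a = b * r)
    (ha : ρ * a = a' * ρ) (hb : ρ * b = b' * ρ) : ρ * r * ρ⁻¹ * a' = b' * (ρ * r * ρ⁻¹) := by
  have e1 : a' = ρ * a * ρ⁻¹ := by rw [ha]; group
  have e2 : b' = ρ * b * ρ⁻¹ := by rw [hb]; group
  rw [e1, e2]
  calc ρ * r * ρ⁻¹ * (ρ * a * ρ⁻¹) = ρ * (r * a) * ρ⁻¹ := by group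
    _ = _ := by rw [h]; group

namespace Data

variable {G : Type*} [Group G] [Finite G] (D : Data G)

omit [Finite G] in
theorem ρ_inj {ρ : K} {y x : S32} (h : D.κ ρ * D.sm y = D.sm x * D.κ ρ) (hi : y.i = x.i) :
    ρ * kp y.v = kp x.v * ρ := by
  obtain ⟨y, i⟩ := y
  obtain ⟨x, j⟩ := x
  simp only at hi; subst hi
  cases i
  · rw [D.sm_false, D.sm_false, ← map_mul, ← map_mul] at h; exact D.inj h
  · rw [D.sm_true, D.sm_true, ← mul_assoc, ← map_mul, mul_assoc (D.κ (kp x)), D.comm, ← mul_assoc,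
      ← map_mul] at h
    exact D.inj (mul_right_cancel h)

omit [Finite G] in
/-- The centralizer of `⟨z, g, s, d⟩` in the centralizer of `t`. -/
theorem cent_model {c : G} (ht : Commute c D.t) (hz : Commute c (D.sm sz))
    (hg : Commute c (D.sm sg)) (hs : Commute c (D.sm ss)) (hd : Commute c (D.κ pD)) :
    ∃ w : S32, c = D.sm w ∧ w.v.s = false ∧ w.v.a = false := by
  obtain ⟨k, hk, -, hcom⟩ := D.cent_data ht
  have z' := hcom sz hz
  have g' := hcom sg hg
  have s' := hcom ss hs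
  simp only [sz, sg, ss, kp_values] at z' g' s'
  have d' : Commute k pD := by
    have h : Commute (D.κ k) (D.κ pD) := by
      rcases hk with hk | hk <;> rw [hk] at hd
      · exact hd
      · have := hd.mul_left (D.commute_κ_t pD).symm
        rwa [mul_assoc, D.sq, mul_one] at this
    exact D.inj (by rw [map_mul, map_mul]; exact h.eq)
  obtain ⟨v, hv, hvs, hva⟩ : ∃ v : K4, kp v = k ∧ v.s = false ∧ v.a = false := by
    have hval : kp k0 = 1 ∧ kp kz = pZ ∧ kp kg = pG ∧ kp ⟨true, false, false, true⟩ = pG * pZ := by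
      decide +kernel
    rcases cent_zgsd k z' g' s' d' with e | e | e | e
    · exact ⟨k0, hval.1.trans e.symm, rfl, rfl⟩
    · exact ⟨kz, hval.2.1.trans e.symm, rfl, rfl⟩
    · exact ⟨kg, hval.2.2.1.trans e.symm, rfl, rfl⟩
    · exact ⟨⟨true, false, false, true⟩, hval.2.2.2.trans e.symm, rfl, rfl⟩
  rcases hk with hk | hk
  · exact ⟨⟨v, false⟩, by rw [hk, D.sm_false, hv], hvs, hva⟩
  · exact ⟨⟨v, true⟩, by rw [hk, D.sm_true, hv], hvs, hva⟩

omit [Finite G] in
/-- The data of the exotic subgroup. -/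
theorem beta_split (hF : D.HasFlags Fβ) (R : NEl D) (hθ : ∀ v, R.θ v = θα false v)
    (h2 : R.n * R.n = 1) (hd : R.n * D.κ pD * R.n⁻¹ = D.κ pD) (hr : D.InF R.n) :
    ∃ r' r'' : G, r'' = r' * R.n * D.sm (sg * st) ∧
      R.n * r' * (R.n * r') = D.sm (sg * sz) ∧ r' * r' = 1 ∧
      r' * D.t = D.sm (sg * st) * r' ∧ Commute r' (D.sm sz) ∧ Commute r' (D.sm sg) ∧
      Commute r' (D.sm ss) ∧ Commute r'' (D.sm sz) ∧ Commute r'' (D.sm sg) ∧
      D.κ pB * r' = r'' * D.κ pB ∧ D.InF r' ∧ D.InF r'' := by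
  set r := R.n with hr0
  set ρ := D.κ pR2 with hρ
  set r' := ρ * r * ρ⁻¹ with hr'
  set r'' := ρ * r' * ρ⁻¹ with hr''
  have ρt : ρ * D.sm st = D.sm st * ρ := D.ρ_sm st st (by decide +kernel)
  have ρs : ρ * D.sm ss = D.sm ss * ρ := D.ρ_sm ss ss (by decide +kernel)
  have ρz : ρ * D.sm sz = D.sm sg * ρ := D.ρ_sm sz sg (by decide +kernel)
  have ρg : ρ * D.sm sg = D.sm (sg * sz) * ρ := D.ρ_sm sg _ (by decide +kernel)
  have ρgz : ρ * D.sm (sg * sz) = D.sm sz * ρ := D.ρ_sm _ sz (by decide +kernel)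
  have ρzt : ρ * D.sm (sz * st) = D.sm (sg * st) * ρ := D.ρ_sm _ _ (by decide +kernel)
  have ρgt : ρ * D.sm (sg * st) = D.sm (sg * sz * st) * ρ := D.ρ_sm _ _ (by decide +kernel)
  have ρd : ρ * D.κ pD = D.κ pD * ρ := by rw [hρ, ← map_mul, ← map_mul, rho_facts.2.2.2.2.2.2.2.2.2.1]
  have ρ3 : ρ * ρ * ρ = 1 := by rw [hρ, ← map_mul, ← map_mul, rho_facts.2.2.2.2.2.1, map_one]
  have rd : r * D.κ pD = D.κ pD * r := by
    have := congrArg (· * r) hd; simpa [mul_assoc] using this
  have rfix : ∀ v, θα false v = v → r * D.sm v = D.sm v * r := fun v hv => by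
    rw [R.conj, hθ, hv]
  have rz := rfix sz (by decide +kernel)
  have rg := rfix sg (by decide +kernel)
  have rs := rfix ss (by decide +kernel)
  have rgz := rfix (sg * sz) (by decide +kernel)
  have rt : r * D.sm st = D.sm (sz * st) * r := by
    rw [R.conj, hθ, alpha_facts.2.2.2.2.2.1]
  have r't : r' * D.sm st = D.sm (sg * st) * r' := conj_step rt ρt ρzt
  have r'z : r' * D.sm sz = D.sm sz * r' := conj_step rgz ρgz ρgz
  have r'g : r' * D.sm sg = D.sm sg * r' := conj_step rz ρz ρz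
  have r's : r' * D.sm ss = D.sm ss * r' := conj_step rs ρs ρs
  have r'd : r' * D.κ pD = D.κ pD * r' := conj_step rd ρd ρd
  have r'gz : r' * D.sm (sg * sz) = D.sm (sg * sz) * r' := by
    rw [D.sm_mul]; exact ((show Commute r' (D.sm sg) from r'g).mul_right r'z).eq
  have r''t : r'' * D.sm st = D.sm (sg * sz * st) * r'' := conj_step r't ρt ρgt
  have r''z : r'' * D.sm sz = D.sm sz * r'' := conj_step r'gz ρgz ρgz
  have r''g : r'' * D.sm sg = D.sm sg * r'' := conj_step r'z ρz ρz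
  have r''s : r'' * D.sm ss = D.sm ss * r'' := conj_step r's ρs ρs
  have r''d : r'' * D.κ pD = D.κ pD * r'' := conj_step r'd ρd ρd
  have r'2 : r' * r' = 1 := by
    rw [hr', show ρ * r * ρ⁻¹ * (ρ * r * ρ⁻¹) = ρ * (r * r) * ρ⁻¹ by group, h2]; group
  have cz : Commute r (D.sm sz) := rz
  have cg : Commute r (D.sm sg) := rg
  -- the element `e = r r' r''`
  obtain ⟨w, hw, hws, hwa⟩ := D.cent_model (c := r * r' * r'') (by
      rw [← D.sm_st]
      show r * r' * r'' * D.sm st = D.sm st * (r * r' * r'')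
      rw [mul_assoc, r''t, ← mul_assoc, mul_assoc r r', D.sm_mul, ← mul_assoc r', r'gz,
        mul_assoc (D.sm (sg * sz)), r't, ← mul_assoc (D.sm (sg * sz)), ← D.sm_mul,
        show sg * sz * (sg * st) = sz * st by decide +kernel, ← mul_assoc r, R.conj, hθ,
        show θα false (sz * st) = st by decide +kernel, ← hr0]
      group)
    ((cz.mul_left r'z).mul_left r''z) ((cg.mul_left r'g).mul_left r''g)
    (((show Commute r _ from rs).mul_left r's).mul_left r''s)
    (((show Commute r _ from rd).mul_left r'd).mul_left r''d)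
  have hr''e : r'' = r' * r * D.sm w := by
    rw [← hw]
    calc r'' = r' * r' * r'' := by rw [r'2, one_mul]
      _ = r' * (r * r) * r' * r'' := by rw [h2]; group
      _ = _ := by group
  -- the element `c = (r r')²`
  obtain ⟨w', hw', hws', hwa'⟩ := D.cent_model (c := r * r' * (r * r')) (by
      rw [← D.sm_st]
      show r * r' * (r * r') * D.sm st = D.sm st * (r * r' * (r * r'))
      have e1 : r * r' * D.sm st = D.sm (sg * sz * st) * (r * r') := by
        rw [mul_assoc, r't, ← mul_assoc, R.conj, hθ,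
          show θα false (sg * st) = sg * sz * st by decide +kernel, ← hr0]; group
      have e2 : r * r' * D.sm (sg * sz * st) = D.sm st * (r * r') := by
        rw [D.sm_mul, ← mul_assoc, mul_assoc r r', r'gz, ← mul_assoc r, rgz, mul_assoc (D.sm _) r,
          mul_assoc (D.sm _) (r * r'), e1, ← mul_assoc, ← D.sm_mul,
          show sg * sz * (sg * sz * st) = st by decide +kernel]
      rw [mul_assoc, e1, ← mul_assoc, e2, mul_assoc])
    ((cz.mul_left r'z).mul_left (cz.mul_left r'z)) ((cg.mul_left r'g).mul_left (cg.mul_left r'g))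
    (((show Commute r _ from rs).mul_left r's).mul_left ((show Commute r _ from rs).mul_left r's))
    (((show Commute r _ from rd).mul_left r'd).mul_left ((show Commute r _ from rd).mul_left r'd))
  have hw'2 : ∀ w : S32, w.v.s = false → w.v.a = false → w * w = se := by decide +kernel
  have hfix : θα false w' = w' := by
    apply D.sm_injective
    have e : r * D.sm w' = D.sm w' * r := by
      have hinv : (D.sm w')⁻¹ = D.sm w' := inv_eq_of_mul_eq_one_right (by
        rw [← D.sm_mul, hw'2 w' hws' hwa', D.sm_se])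
      have ri : r⁻¹ = r := inv_eq_of_mul_eq_one_right h2
      have r'i : r'⁻¹ = r' := inv_eq_of_mul_eq_one_right r'2
      conv_rhs => rw [← hinv]
      rw [← hw', mul_inv_rev, mul_inv_rev, ri, r'i,
        show r * (r * r' * (r * r')) = r * r * r' * r * r' by group,
        show r' * r * (r' * r) * r = r' * r * r' * (r * r) by group, h2]
      group
    rw [R.conj, hθ] at e
    exact mul_right_cancel e
  have hrw : r * D.sm w = D.sm (θα false w) * r := by rw [R.conj, hθ]
  have er : r * D.sm w * r = D.sm (θα false w) := by rw [hrw, mul_assoc, h2, mul_one]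
  have hρc : ρ * D.sm w' = D.sm (θα false w * w) * ρ := by
    rw [← hw', D.sm_mul, ← er]
    calc ρ * (r * r' * (r * r')) = (r' * r'') * (r' * r'') * ρ := by rw [hr'', hr']; group
      _ = r' * r' * r * D.sm w * (r' * r' * r * D.sm w) * ρ := by rw [hr''e]; group
      _ = _ := by rw [r'2]; group
  have hρe : ρ * D.sm w = D.sm (θα false w) * ρ := by
    rw [← er]
    calc ρ * D.sm w = ρ * (r * r' * r'') := by rw [hw]
      _ = r' * r'' * (ρ * ρ * ρ * r * (ρ * ρ * ρ)⁻¹) * ρ := by rw [hr'', hr']; group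
      _ = r' * r' * r * D.sm w * r * ρ := by rw [ρ3, hr''e]; group
      _ = _ := by rw [r'2]; group
  have key : ∀ w w' : S32, w.v.s = false → w.v.a = false → w'.v.s = false → w'.v.a = false →
      θα false w' = w' → (θα false w * w).i = w'.i ∧ (θα false w).i = w.i ∧
      (pR2 * kp w'.v = kp (θα false w * w).v * pR2 → pR2 * kp w.v = kp (θα false w).v * pR2 →
        (w = se ∧ w' = se) ∨ (w = sg * st ∧ w' = sg * sz)) := by decide +kernel
  obtain ⟨i1, i2, hcase⟩ := key w w' hws hwa hws' hwa' hfix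
  have hr'F : D.InF r' := D.inF_conj ρ hr
  have hr''F : D.InF r'' := D.inF_conj ρ hr'F
  rcases hcase (D.ρ_inj hρc i1.symm) (D.ρ_inj hρe i2.symm) with ⟨rfl, rfl⟩ | ⟨rfl, rfl⟩
  · exfalso
    rw [D.sm_se] at hw'
    rw [D.sm_se, mul_one] at hr''e
    have hc : Commute r' r := by
      calc r' * r = r * r * (r' * r) * (r' * r') := by rw [h2, r'2]; group
        _ = r * (r * r' * (r * r')) * r' := by group
        _ = r * r' := by rw [hw', mul_one]
    exact D.inF_mul_not hF hr'F hr hc (hr''e ▸ hr''F)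
  · refine ⟨r', r'', hr''e, hw', r'2, by rwa [D.sm_st] at r't, r'z, r'g, r's, r''z, r''g, ?_,
      hr'F, hr''F⟩
    have hb : D.κ pB * ρ * (D.κ pB)⁻¹ = ρ⁻¹ := by
      rw [hρ, ← map_inv, ← map_inv, ← map_mul, ← map_mul, rho_facts.2.2.2.2.2.2.2.2.2.2]
    have hbr : D.κ pB * r = r * D.κ pB := by
      rw [← kp_values.2.2.2.2.2.2, ← D.sm_false]
      exact (rfix _ (by decide +kernel)).symm
    have h4 : r'' = ρ⁻¹ * r * ρ := by
      have e : ρ * ρ = ρ⁻¹ := eq_inv_of_mul_eq_one_left ρ3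
      rw [hr'', hr', show ρ * (ρ * r * ρ⁻¹) * ρ⁻¹ = (ρ * ρ) * r * (ρ * ρ)⁻¹ by group, e, inv_inv]
    have hb' : D.κ pB * ρ⁻¹ * (D.κ pB)⁻¹ = ρ := by
      rw [show D.κ pB * ρ⁻¹ * (D.κ pB)⁻¹ = (D.κ pB * ρ * (D.κ pB)⁻¹)⁻¹ by group, hb, inv_inv]
    rw [h4, hr']
    calc D.κ pB * (ρ * r * ρ⁻¹)
        = D.κ pB * ρ * (D.κ pB)⁻¹ * (D.κ pB * r) * ρ⁻¹ := by group
      _ = ρ⁻¹ * (r * D.κ pB) * ρ⁻¹ := by rw [hb, hbr]
      _ = ρ⁻¹ * r * (D.κ pB * ρ⁻¹ * (D.κ pB)⁻¹) * D.κ pB := by group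
      _ = _ := by rw [hb']

end Data

end Cfsg.Agent.X4S75
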