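import Cfsg.Agent.X4S75.BetaRules

/-!
The configuration β: the normalising elements moving `t` to `tz` and to `tzs`, adjusted.
-/

namespace Cfsg.Agent.X4S75

/-- `t ↦ ts`. -/
def φu (v : S32) : S32 := ⟨⟨v.v.z, Bool.xor v.v.s v.i, v.v.a, v.v.g⟩, v.i⟩

/-- `t ↦ tzs`. -/
def φq (v : S32) : S32 := ⟨⟨Bool.xor v.v.z v.i, Bool.xor v.v.s v.i, v.v.a, v.v.g⟩, v.i⟩

/-- `(2 3 6)` -/
def x3 : K := Equiv.swap 2 3 * Equiv.swap 3 6

/-- `(2 4 3 5)` -/
def y4 : K := Equiv.swap 2 4 * Equiv.swap 4 3 * Equiv.swap 3 5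

/-- In the coset of `a` modulo the centre, inside the complement. -/
def InA (v : S32) : Prop := v.i = false ∧ v.v.a = true ∧ v.v.g = false

/-- In the coset of `g` modulo the centre, inside the complement. -/
def InG (v : S32) : Prop := v.i = false ∧ v.v.a = false ∧ v.v.g = true

instance : DecidablePred InA := fun v => inferInstanceAs (Decidable (_ ∧ _))
instance : DecidablePred InG := fun v => inferInstanceAs (Decidable (_ ∧ _))

theorem xy_facts : (x3 * x3 * x3 = 1 ∧ x3 ≠ 1 ∧ x3 * pA = pA * x3 ∧ x3 * pS = pS * x3) ∧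
    (y4 * y4 ≠ 1 ∧ y4 * pA = pA * y4 ∧ y4 * (pZ * pS) = pZ * pS * y4) := by
  decide +kernel

theorem beta_invol : ∀ v : S32, ¬ Cent v → v * v = se → fl Fβ v = false → InA v ∨ InG v := by
  decide +kernel

theorem beta_g : ∀ v w : S32, InA v → InA w ∨ InG w → v * w ≠ w * v → InG w := by
  decide +kernel

theorem g_values : ∀ v : S32, InG v →
    (kp v.v = pG ∨ kp v.v = pG * pZ ∨ pS * kp v.v = pG ∨ pS * kp v.v = pG * pZ) ∧
    (kp v.v = pG ∨ kp v.v = pG * pZ ∨ pZ * pS * kp v.v = pG ∨ pZ * pS * kp v.v = pG * pZ) ∧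
    (v.v.s = true → kp v.v = pG * pS ∨ pZ * kp v.v = pG * pS) ∧
    (v.v.s = true → v = sg * ss ∨ v = sz * (sg * ss)) ∧
    (v.v.s = false → v = sg ∨ v = sz * sg) := by decide +kernel

theorem a_values : ∀ v : S32, InA v →
    (v.v.s = true → kp v.v = pA * pS ∨ pZ * kp v.v = pA * pS) ∧
    (v.v.s = true → v = sa * ss ∨ v = sz * (sa * ss)) ∧
    (v.v.s = false → v = sa ∨ v = sz * sa) := by decide +kernel

namespace Data

variable {G : Type*} [Group G] [Finite G] (D : Data G)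

omit [Finite G] in
/-- What is known of an element commuting with `t`. -/
theorem cent_data {c : G} (hc : Commute c D.t) :
    ∃ k, (c = D.κ k ∨ c = D.κ k * D.t) ∧ c * c = D.κ (k * k) ∧
      ∀ v, Commute c (D.sm v) → Commute k (kp v.v) := by
  obtain ⟨k, hk⟩ := D.cover c hc.eq
  refine ⟨k, hk, ?_, fun v hv => ?_⟩
  · rcases hk with hk | hk <;> rw [hk]
    · rw [map_mul]
    · exact D.κ_t_sq k
  · rcases hk with hk | hk <;> rw [hk] at hv
    · exact D.commute_of_κ (v := v.v) (i := v.i) hv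
    · refine D.commute_of_κ (v := v.v) (i := v.i) ?_
      have h1 : Commute D.t (D.sm v) := (D.sm_comm_t v).symm
      have := hv.mul_left h1
      rwa [mul_assoc, D.sq, mul_one] at this

omit [Finite G] in
theorem commute_κ_sm' {k : K} (v : S32) (h : k * kp v.v = kp v.v * k) :
    Commute (D.κ k) (D.sm v) :=
  D.commute_κ_sm k v.v v.i h

omit [Finite G] in
theorem commute_t_of {c : G} {v w : S32} (hvw : v * w = st) (hv : Commute c (D.sm v))
    (hw : Commute c (D.sm w)) : Commute c D.t := by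
  rw [← D.sm_st, ← hvw, D.sm_mul]
  exact hv.mul_right hw

omit [Finite G] in
theorem kill_five (N : NEl D) (h1 : N.θ st = sz * ss * st) (h2 : N.θ ss = sz * ss) : False := by
  set c := N.n * D.κ swap5 * N.n⁻¹ with hc
  have ht := N.commute_conj (D.commute_κ_sm' st (k := swap5) (by decide +kernel))
  have hs := N.commute_conj (D.commute_κ_sm' ss (k := swap5) (by decide +kernel))
  rw [h1, ← hc] at ht
  rw [h2, ← hc] at hs
  obtain ⟨k, hk, hsq, hcomm⟩ := D.cent_data (D.commute_t_of (by decide +kernel) hs ht)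
  have h5 : c ^ 5 = 1 := by
    rw [hc, conj_pow, ← map_pow, five_facts.2.1, map_one]; group
  have hk5 : k ^ 5 = 1 ∧ c = D.κ k := by
    rcases hk with hk | hk
    · exact ⟨D.inj (by rw [map_pow, ← hk, h5, map_one]), hk⟩
    · exfalso
      have : D.κ (k * k * (k * k) * k) * D.t = 1 := by
        rw [← h5, map_mul, map_mul, ← hsq, mul_assoc, ← hk]
        simp only [pow_succ, pow_zero, one_mul, mul_assoc]
      exact D.out _ (show D.κ (k * k * (k * k) * k)⁻¹ = D.t by
        rw [map_inv]; exact inv_eq_of_mul_eq_one_right this)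
  have hzs := hcomm _ hs
  rw [show kp (sz * ss : S32).v = pZ * pS by decide +kernel] at hzs
  have := no_five k hzs hk5.1
  rw [this, map_one] at hk5
  have h6 : D.κ swap5 = 1 := by
    have := congrArg (fun u => N.n⁻¹ * u * N.n) hk5.2
    simpa [hc, mul_assoc] using this
  exact five_facts.2.2 (D.inj (h6.trans (map_one _).symm))

omit [Finite G] in
theorem ρ_sm {ρ : K} (y x : S32) (h : ρ * kp y.v = kp x.v * ρ ∧ y.i = x.i) :
    D.κ ρ * D.sm y = D.sm x * D.κ ρ := by
  obtain ⟨y, i⟩ := y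
  obtain ⟨x, j⟩ := x
  obtain ⟨h, rfl⟩ := h
  cases i
  · rw [D.sm_false, D.sm_false, ← map_mul, h, map_mul]
  · rw [D.sm_true, D.sm_true, ← mul_assoc, ← map_mul, h, map_mul, mul_assoc, ← D.comm, ← mul_assoc]

omit [Finite G] in
/-- The effect of `n⁻¹ ρ n ρ⁻¹`. -/
theorem shift (N : NEl D) {ρ : K} (y x x' : S32) (h1 : ρ * kp y.v = kp x.v * ρ ∧ y.i = x.i)
    (h2 : ρ * kp (N.θ y).v = kp (N.θ x').v * ρ ∧ (N.θ y).i = (N.θ x').i) :
    N.n⁻¹ * D.κ ρ * N.n * (D.κ ρ)⁻¹ * D.sm x =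
      D.sm x' * (N.n⁻¹ * D.κ ρ * N.n * (D.κ ρ)⁻¹) := by
  have e1 := D.ρ_sm y x h1
  have e2 := D.ρ_sm _ _ h2
  have e3 := N.conj x'
  calc N.n⁻¹ * D.κ ρ * N.n * (D.κ ρ)⁻¹ * D.sm x
      = N.n⁻¹ * D.κ ρ * N.n * (D.κ ρ)⁻¹ * (D.sm x * D.κ ρ) * (D.κ ρ)⁻¹ := by group
    _ = N.n⁻¹ * D.κ ρ * (N.n * D.sm y) * (D.κ ρ)⁻¹ := by rw [← e1]; group
    _ = N.n⁻¹ * (D.κ ρ * D.sm (N.θ y)) * N.n * (D.κ ρ)⁻¹ := by rw [N.conj]; group
    _ = N.n⁻¹ * (N.n * D.sm x') * N.n⁻¹ * D.κ ρ * N.n * (D.κ ρ)⁻¹ := by rw [e2, e3]; group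
    _ = _ := by group

omit [Finite G] in
theorem θ_central_inner (m : S32) {v : S32} (hv : Cent v) : (D.inner m).θ v = v := by
  have : ∀ m v : S32, Cent v → m * v * (m * m * m) = v := by decide +kernel
  exact this m v hv

omit [Finite G] in
theorem exists_normal (N : NEl D) (φ : S32 → S32) (hφ : ∀ v w, φ (v * w) = φ v * φ w)
    (hfix : φ se = se ∧ φ sz = sz ∧ φ ss = ss ∧ φ sa = sa ∧ φ sg = sg)
    (ht : N.θ st = φ st) (hct : Cent (φ st)) (hs : N.θ ss = ss)
    (ha : N.θ sa = sa ∨ N.θ sa = sz * sa) (hg : N.θ sg = sg ∨ N.θ sg = sz * sg) :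
    ∃ N' : NEl D, ∀ v, N'.θ v = φ v := by
  obtain ⟨m, hm₁, hm₂⟩ : ∃ m : S32, m * N.θ sg * (m * m * m) = sg ∧
      m * N.θ sa * (m * m * m) = sa := by
    rcases hg with hg | hg <;> rcases ha with ha | ha <;> rw [hg, ha]
    · exact ⟨se, by decide +kernel⟩
    · exact ⟨sg, by decide +kernel⟩
    · exact ⟨sa, by decide +kernel⟩
    · exact ⟨sa * sg, by decide +kernel⟩
  refine ⟨(D.inner m).comp N, NEl.θ_eq_of_gens _ φ hφ hfix.1 hfix.2.1 ?_ ?_ ?_ ?_⟩
  · rw [NEl.comp_θ, hs, hfix.2.2.1]; exact D.θ_central_inner m s32_facts.2.2.2.2.2.2.1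
  · rw [NEl.comp_θ, hfix.2.2.2.1]; exact hm₂
  · rw [NEl.comp_θ, hfix.2.2.2.2]; exact hm₁
  · rw [NEl.comp_θ, ht]; exact D.θ_central_inner m hct

section
variable (hF : D.HasFlags Fβ)
include hF

theorem fix_s (N : NEl D) (h : N.θ st = ss * st ∨ N.θ st = sz * ss * st) : N.θ ss = ss := by
  have hs := s32_facts.2.2.2.2.2.2.1
  have hfl := N.fl_eq hF ss
  have hz : N.θ ss ≠ sz := fun e => absurd (N.θ_injective (e.trans N.θ_sz.symm)) (by decide +kernel)
  have he : N.θ ss ≠ se := fun e => absurd (N.θ_injective (e.trans N.θ_se.symm)) (by decide +kernel)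
  have key : ∀ u : S32, Cent u → fl Fβ u = fl Fβ ss → u ≠ sz → u ≠ se → u = ss ∨ u = sz * ss := by
    decide +kernel
  rcases key _ (N.θ_cent hs) hfl hz he with e | e
  · exact e
  exfalso
  rcases h with h | h
  · refine D.kill_five (N.comp (N.comp N)) ?_ ?_ <;>
      simp only [NEl.comp_θ, h, e, N.θ_mul, N.θ_sz] <;> decide +kernel
  · exact D.kill_five N h e

theorem coset_images (N : NEl D) (h : N.θ st = ss * st ∨ N.θ st = sz * ss * st) :
    InA (N.θ sa) ∧ InG (N.θ sg) := by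
  have hs := D.fix_s hF N h
  have hf : ¬ Cent sa ∧ ¬ Cent sg ∧ sa * sa = se ∧ sg * sg = se ∧ fl Fβ sa = false ∧
      fl Fβ sg = false ∧ sa * sg ≠ sg * sa := by decide +kernel
  obtain ⟨nca, ncg, haa, hgg, fla, flg, hag⟩ := hf
  have hA := beta_invol _ (D.not_cent_of_θ N nca) (by rw [← N.θ_mul, haa, N.θ_se])
    ((N.fl_eq hF _).trans fla)
  have hG := beta_invol _ (D.not_cent_of_θ N ncg) (by rw [← N.θ_mul, hgg, N.θ_se])
    ((N.fl_eq hF _).trans flg)
  suffices hA' : InA (N.θ sa) by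
    refine ⟨hA', beta_g _ _ hA' hG ?_⟩
    rw [← N.θ_mul, ← N.θ_mul]; exact fun e => hag (N.θ_injective e)
  refine hA.resolve_right fun hg => ?_
  obtain ⟨⟨x1, x2, x3a, x3s⟩, y1, y2, y3⟩ := xy_facts
  rcases h with h | h
  · set c := N.n * D.κ x3 * N.n⁻¹ with hc
    have ht := N.commute_conj (D.commute_κ_sm' st (k := x3) (by decide +kernel))
    have hcs := N.commute_conj (D.commute_κ_sm' ss (k := x3) (by decide +kernel))
    have hca := N.commute_conj (D.commute_κ_sm' sa (k := x3) (by decide +kernel))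
    rw [h, ← hc] at ht
    rw [hs, ← hc] at hcs
    rw [← hc] at hca
    have hct := D.commute_t_of (by decide +kernel) hcs ht
    obtain ⟨k, hk, hk3⟩ := D.cube_mem hct (N.conj_cube (by rw [← map_mul, ← map_mul, x1, map_one]))
    rw [hk] at hcs hca
    have h1 : Commute k pS := by
      have := D.commute_of_κ (v := ks) (i := false) hcs
      rwa [kp_values.2.2.1] at this
    have h2 : Commute k (kp (N.θ sa).v) := D.commute_of_κ (i := (N.θ sa).i) hca
    have hk1 : k = 1 := by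
      rcases (g_values _ hg).1 with e | e | e | e
      · rw [e] at h2; exact (no_cube k hk3).2.2.1 h1 h2
      · rw [e] at h2; exact (no_cube k hk3).2.2.2 h1 h2
      · have := h1.mul_right h2; rw [e] at this; exact (no_cube k hk3).2.2.1 h1 this
      · have := h1.mul_right h2; rw [e] at this; exact (no_cube k hk3).2.2.2 h1 this
    rw [hk1, map_one] at hk
    have : D.κ x3 = 1 := by
      have := congrArg (fun u => N.n⁻¹ * u * N.n) hk
      simpa [hc, mul_assoc] using this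
    exact x2 (D.inj (this.trans (map_one _).symm))
  · set c := N.n * D.κ y4 * N.n⁻¹ with hc
    have ht := N.commute_conj (D.commute_κ_sm' st (k := y4) (by decide +kernel))
    have hcs := N.commute_conj (D.commute_κ_sm' (sz * ss) (k := y4) (by decide +kernel))
    have hca := N.commute_conj (D.commute_κ_sm' sa (k := y4) (by decide +kernel))
    rw [h, ← hc] at ht
    rw [N.θ_mul, N.θ_sz, hs, ← hc] at hcs
    rw [← hc] at hca
    obtain ⟨k, -, hsq, hcomm⟩ := D.cent_data (D.commute_t_of (by decide +kernel) hcs ht)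
    have h1 : Commute k (pZ * pS) := by
      have := hcomm _ hcs
      rwa [show kp (sz * ss : S32).v = pZ * pS by decide +kernel] at this
    have h2 := hcomm _ hca
    have hk1 : k * k = 1 := by
      rcases (g_values _ hg).2.1 with e | e | e | e
      · rw [e] at h2; exact (no_four k h1).1 h2
      · rw [e] at h2; exact (no_four k h1).2 h2
      · have := h1.mul_right h2; rw [e] at this; exact (no_four k h1).1 this
      · have := h1.mul_right h2; rw [e] at this; exact (no_four k h1).2 this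
    rw [hk1, map_one] at hsq
    have : D.κ (y4 * y4) = 1 := by
      have := congrArg (fun u => N.n⁻¹ * u * N.n) hsq
      simpa [hc, mul_assoc] using this
    exact y1 (D.inj (this.trans (map_one _).symm))

theorem u_g (N : NEl D) (h : N.θ st = ss * st) : N.θ sg = sg ∨ N.θ sg = sz * sg := by
  obtain ⟨-, hg⟩ := D.coset_images hF N (Or.inl h)
  have hs := D.fix_s hF N (Or.inl h)
  refine (g_values _ hg).2.2.2.2 (Bool.eq_false_iff.2 fun hb => ?_)
  obtain ⟨M, hMt, hMs, hMg⟩ : ∃ M : NEl D, M.θ st = ss * st ∧ M.θ ss = ss ∧ M.θ sg = sg * ss := by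
    rcases (g_values _ hg).2.2.2.1 hb with e | e
    · exact ⟨N, h, hs, e⟩
    · refine ⟨(D.inner sa).comp N, ?_, ?_, ?_⟩
      · rw [NEl.comp_θ, h]; exact D.θ_central_inner _ (by decide +kernel)
      · rw [NEl.comp_θ, hs]; exact D.θ_central_inner _ s32_facts.2.2.2.2.2.2.1
      · rw [NEl.comp_θ, e]
        show sa * (sz * (sg * ss)) * (sa * sa * sa) = _
        decide +kernel
  set w := M.n⁻¹ * D.κ pR2 * M.n * (D.κ pR2)⁻¹
  have hwt := D.shift M (ρ := pR2) st st st (by decide +kernel) (by rw [hMt]; decide +kernel)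
  have hwz := D.shift M (ρ := pR2) (sg * sz) sz (sz * ss) (by decide +kernel)
    (by simp only [M.θ_mul, M.θ_sz, hMg, hMs]; decide +kernel)
  rw [D.sm_st] at hwt
  rw [D.sm_z, D.sm_mul, D.sm_z, D.sm_s, ← map_mul] at hwz
  have hconj := D.isConj_κ hwt (k := pZ) (k' := pZ * pS) (by rw [hwz]; group)
  have := nMoved_of_isConj hconj
  rw [nMoved_values.2.1, nMoved_values.2.2] at this
  exact absurd this (by norm_num)

theorem q_a (N : NEl D) (h : N.θ st = sz * ss * st) : N.θ sa = sa ∨ N.θ sa = sz * sa := by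
  obtain ⟨ha, -⟩ := D.coset_images hF N (Or.inr h)
  have hs := D.fix_s hF N (Or.inr h)
  refine (a_values _ ha).2.2 (Bool.eq_false_iff.2 fun hb => ?_)
  obtain ⟨M, hMt, hMs, hMa⟩ : ∃ M : NEl D, M.θ st = sz * ss * st ∧ M.θ ss = ss ∧
      M.θ sa = sa * ss := by
    rcases (a_values _ ha).2.1 hb with e | e
    · exact ⟨N, h, hs, e⟩
    · refine ⟨(D.inner sg).comp N, ?_, ?_, ?_⟩
      · rw [NEl.comp_θ, h]; exact D.θ_central_inner _ (by decide +kernel)
      · rw [NEl.comp_θ, hs]; exact D.θ_central_inner _ s32_facts.2.2.2.2.2.2.1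
      · rw [NEl.comp_θ, e]
        show sg * (sz * (sa * ss)) * (sg * sg * sg) = _
        decide +kernel
  have hwt := D.shift M (ρ := pR1) st st st (by decide +kernel) (by rw [hMt]; decide +kernel)
  have hwa := D.shift M (ρ := pR1) ss sa (sa * ss) (by decide +kernel)
    (by simp only [M.θ_mul, hMa, hMs]; decide +kernel)
  rw [D.sm_st] at hwt
  rw [D.sm_a, D.sm_mul, D.sm_a, D.sm_s, ← map_mul] at hwa
  have hconj := D.isConj_κ hwt (k := pA) (k' := pA * pS) (by rw [hwa]; group)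
  have := nMoved_of_isConj hconj
  rw [show nMoved pA = 2 by decide +kernel, show nMoved (pA * pS) = 4 by decide +kernel] at this
  exact absurd this (by norm_num)

end

omit [Finite G] in
theorem d_image (N : NEl D) (h : N.θ st = sz * st) (v : S32) (hv : pD * kp v.v = kp v.v * pD) :
    ∃ k, k * k * k = 1 ∧ k ≠ 1 ∧ Commute k pZ ∧ Commute k (kp (N.θ v).v) := by
  set c := N.n * D.κ pD * N.n⁻¹ with hc
  have hz := N.commute_conj (D.commute_κ_sm' sz (k := pD) (by decide +kernel))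
  have ht := N.commute_conj (D.commute_κ_sm' st (k := pD) (by decide +kernel))
  have hv' := N.commute_conj (D.commute_κ_sm' v (k := pD) hv)
  rw [N.θ_sz, ← hc] at hz
  rw [h, ← hc] at ht
  rw [← hc] at hv'
  obtain ⟨k, hk, hk3⟩ := D.cube_mem (D.commute_t_of (by decide +kernel) hz ht)
    (N.conj_cube (by rw [← map_mul, ← map_mul, d_facts.1, map_one]))
  rw [hk] at hz hv'
  refine ⟨k, hk3, ?_, ?_, D.commute_of_κ (i := (N.θ v).i) hv'⟩
  · intro e
    rw [e, map_one] at hk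
    have : D.κ pD = 1 := by
      have := congrArg (fun u => N.n⁻¹ * u * N.n) hk
      simpa [hc, mul_assoc] using this
    exact d_facts.2.1 (D.inj (this.trans (map_one _).symm))
  · have := D.commute_of_κ (v := kz) (i := false) hz
    rwa [kp_values.2.1] at this

theorem exists_rq (hF : D.HasFlags Fβ) :
    ∃ R Q : NEl D, (∀ v, R.θ v = θα false v) ∧ (∀ v, Q.θ v = φq v) := by
  obtain ⟨U, hU⟩ := D.exists_nel (by decide +kernel : Cent (ss * st))
    ((D.inF_sm hF _).2 (by decide +kernel))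
  obtain ⟨Q, hQ⟩ := D.exists_nel (by decide +kernel : Cent (sz * ss * st))
    ((D.inF_sm hF _).2 (by decide +kernel))
  have hUs := D.fix_s hF U (Or.inl hU)
  have hQs := D.fix_s hF Q (Or.inr hQ)
  have hUa := (D.coset_images hF U (Or.inl hU)).1
  have hQg := (D.coset_images hF Q (Or.inr hQ)).2
  have hUg := D.u_g hF U hU
  have hQa := D.q_a hF Q hQ
  have hRt : (Q.comp U).θ st = sz * st := by
    simp only [NEl.comp_θ, hU, Q.θ_mul, hQ, hQs]; decide +kernel
  have hRs : (Q.comp U).θ ss = ss := by rw [NEl.comp_θ, hUs, hQs]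
  -- the image of `a`
  have hUa' : U.θ sa = sa ∨ U.θ sa = sz * sa := by
    refine (a_values _ hUa).2.2 (Bool.eq_false_iff.2 fun hb => ?_)
    have e : InA ((Q.comp U).θ sa) ∧ ((Q.comp U).θ sa).v.s = true := by
      rw [NEl.comp_θ]
      rcases (a_values _ hUa).2.1 hb with e | e <;> rcases hQa with e' | e' <;> rw [e] <;>
        simp only [Q.θ_mul, Q.θ_sz, hQs, e'] <;> decide +kernel
    obtain ⟨k, hk3, hk1, hkz, hka⟩ := D.d_image _ hRt sa (by decide +kernel)
    rcases (a_values _ e.1).1 e.2 with e1 | e1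
    · rw [e1] at hka; exact hk1 ((no_cube k hk3).2.1 hkz hka)
    · have := hkz.mul_right hka; rw [e1] at this; exact hk1 ((no_cube k hk3).2.1 hkz this)
  -- the image of `g`
  have hQg' : Q.θ sg = sg ∨ Q.θ sg = sz * sg := by
    refine (g_values _ hQg).2.2.2.2 (Bool.eq_false_iff.2 fun hb => ?_)
    have e : InG ((Q.comp U).θ sg) ∧ ((Q.comp U).θ sg).v.s = true := by
      rw [NEl.comp_θ]
      rcases (g_values _ hQg).2.2.2.1 hb with e | e <;> rcases hUg with e' | e' <;> rw [e'] <;>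
        simp only [Q.θ_mul, Q.θ_sz, e] <;> decide +kernel
    obtain ⟨k, hk3, hk1, hkz, hka⟩ := D.d_image _ hRt sg (by decide +kernel)
    rcases (g_values _ e.1).2.2.1 e.2 with e1 | e1
    · rw [e1] at hka; exact hk1 ((no_cube k hk3).1 hkz hka)
    · have := hkz.mul_right hka; rw [e1] at this; exact hk1 ((no_cube k hk3).1 hkz this)
  obtain ⟨Q', hQ'⟩ := D.exists_normal Q φq (by decide +kernel) (by decide +kernel)
    (hQ.trans (by decide +kernel)) (by decide +kernel) hQs hQa hQg'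
  have hsz : sz * (sz * sa) = sa ∧ sz * (sz * sg) = sg := by decide +kernel
  obtain ⟨R, hR⟩ := D.exists_normal (Q.comp U) (θα false) (alpha_facts.1 false) (by decide +kernel)
    (hRt.trans (alpha_facts.2.2.2.2.2.1 false).symm) (by decide +kernel) hRs
    (by
      rw [NEl.comp_θ]
      rcases hUa' with e | e <;> rcases hQa with e' | e' <;> rw [e] <;>
        simp only [Q.θ_mul, Q.θ_sz, e', hsz, true_or, or_true])
    (by
      rw [NEl.comp_θ]
      rcases hUg with e | e <;> rcases hQg' with e' | e' <;> rw [e] <;>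
        simp only [Q.θ_mul, Q.θ_sz, e', hsz, true_or, or_true])
  exact ⟨R, Q', hR, hQ'⟩

omit [Finite G] in
/-- The square of an element acting by an involutory map moving `t`. -/
theorem square_cent (N : NEl D) (φ : S32 → S32) (hθ : ∀ v, N.θ v = φ v) (h2 : ∀ v, φ (φ v) = v)
    (hfix : ∀ m, Cent m → φ m = m → m.i = false) :
    ∃ m, N.n * N.n = D.sm m ∧ Cent m ∧ m.i = false := by
  have hsq : ∀ v, (N.comp N).θ v = v := fun v => by rw [NEl.comp_θ, hθ, hθ, h2]
  have hcomm : ∀ v, Commute (N.n * N.n) (D.sm v) := fun v => by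
    have := (N.comp N).conj v
    rwa [hsq] at this
  have hct := hcomm st
  rw [D.sm_st] at hct
  obtain ⟨k, hk, -, hcom⟩ := D.cent_data hct
  have hz := hcom sz (hcomm sz)
  have hs := hcom ss (hcomm ss)
  have hg := hcom sg (hcomm sg)
  have ha := hcom sa (hcomm sa)
  simp only [sz, ss, sg, sa, kp_values] at hz hs hg ha
  obtain ⟨v, hv, rfl⟩ := cent_zgs k hz hg hs
  have key : ∀ v : K4, v.a = false → kp v * pA = pA * kp v →
      Cent ⟨v, false⟩ ∧ Cent ⟨v, true⟩ := by decide +kernel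
  obtain ⟨i, hi, hce⟩ : ∃ i, N.n * N.n = D.sm ⟨v, i⟩ ∧ Cent ⟨v, i⟩ := by
    rcases hk with hk | hk
    · exact ⟨false, by rw [hk, D.sm_false], (key v hv ha.eq).1⟩
    · exact ⟨true, by rw [hk, D.sm_true], (key v hv ha.eq).2⟩
  refine ⟨_, hi, hce, hfix _ hce (D.sm_injective ?_)⟩
  have h := N.conj ⟨v, i⟩
  rw [hθ, ← hi, ← mul_assoc] at h
  exact (mul_right_cancel h).symm.trans hi

omit [Finite G] in
theorem square_shift (N : NEl D) (φ : S32 → S32) (hθ : ∀ v, N.θ v = φ v) (h2 : ∀ v, φ (φ v) = v)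
    {ρ : K} {w m : S32} (hw : N.n⁻¹ * D.κ ρ * N.n * (D.κ ρ)⁻¹ = D.sm w)
    (hm : N.n * N.n = D.sm m) (hi : m.i = false) (hi' : (m * (φ w * w)).i = false) :
    ρ * kp m.v = kp (m * (φ w * w)).v * ρ := by
  have h1 : D.κ ρ * N.n = N.n * D.sm w * D.κ ρ := by rw [← hw]; group
  have h3 : N.n * D.sm (φ w) = D.sm w * N.n := by rw [N.conj, hθ, h2]
  have h4 : D.κ ρ * D.sm m = D.sm (m * (φ w * w)) * D.κ ρ := by
    rw [← hm, ← mul_assoc, h1, mul_assoc (N.n * D.sm w), h1, D.sm_mul, D.sm_mul, ← hm]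
    calc N.n * D.sm w * (N.n * D.sm w * D.κ ρ) = N.n * (D.sm w * N.n) * D.sm w * D.κ ρ := by group
      _ = _ := by rw [← h3]; group
  obtain ⟨mv, mi⟩ := m
  rcases he : (⟨mv, mi⟩ * (φ w * w) : S32) with ⟨xv, xi⟩
  rw [he] at h4 hi'
  simp only at hi hi'
  subst hi; subst hi'
  rw [D.sm_false, D.sm_false, ← map_mul, ← map_mul] at h4
  show ρ * kp mv = _
  rw [he]
  exact D.inj h4

omit [Finite G] in
theorem sq_u (N : NEl D) (hθ : ∀ v, N.θ v = φu v) : N.n * N.n = 1 ∨ N.n * N.n = D.κ pS := by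
  obtain ⟨m, hm, hmc, hmi⟩ := D.square_cent N φu hθ (by decide +kernel) (by decide +kernel)
  have h1 := D.shift N (ρ := pR2) st st st (by decide +kernel) (by simp only [hθ]; decide +kernel)
  have h2 := D.shift N (ρ := pR2) (sg * sz) sz sz (by decide +kernel)
    (by simp only [hθ]; decide +kernel)
  have h3 := D.shift N (ρ := pR2) sz sg sg (by decide +kernel) (by simp only [hθ]; decide +kernel)
  have h4 := D.shift N (ρ := pR2) ss ss ss (by decide +kernel) (by simp only [hθ]; decide +kernel)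
  rw [D.sm_st] at h1
  obtain ⟨k, hk, -, hcom⟩ := D.cent_data h1
  have hz := hcom sz h2
  have hg := hcom sg h3
  have hs := hcom ss h4
  simp only [sz, ss, sg, kp_values] at hz hs hg
  obtain ⟨v, hv, rfl⟩ := cent_zgs k hz hg hs
  obtain ⟨i, hw⟩ : ∃ i, N.n⁻¹ * D.κ pR2 * N.n * (D.κ pR2)⁻¹ = D.sm ⟨v, i⟩ := by
    rcases hk with hk | hk
    · exact ⟨false, by rw [hk, D.sm_false]⟩
    · exact ⟨true, by rw [hk, D.sm_true]⟩
  have key : ∀ (m : S32) (v : K4) (i : Bool), Cent m → m.i = false → v.a = false →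
      (m * (φu ⟨v, i⟩ * ⟨v, i⟩)).i = false ∧
      (pR2 * kp m.v = kp (m * (φu ⟨v, i⟩ * ⟨v, i⟩)).v * pR2 → m = se ∨ m = ss) := by decide +kernel
  obtain ⟨hi', hm'⟩ := key m v i hmc hmi hv
  rcases hm' (D.square_shift N φu hθ (by decide +kernel) hw hm hmi hi') with e | e <;>
    rw [hm, e]
  · exact Or.inl D.sm_se
  · exact Or.inr D.sm_s

omit [Finite G] in
theorem sq_q (N : NEl D) (hθ : ∀ v, N.θ v = φq v) :
    N.n * N.n = 1 ∨ N.n * N.n = D.sm (sz * ss) := by
  obtain ⟨m, hm, hmc, hmi⟩ := D.square_cent N φq hθ (by decide +kernel) (by decide +kernel)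
  have h1 := D.shift N (ρ := pR1) st st st (by decide +kernel) (by simp only [hθ]; decide +kernel)
  have h2 := D.shift N (ρ := pR1) (ss * sa) sz sz (by decide +kernel)
    (by simp only [hθ]; decide +kernel)
  have h3 := D.shift N (ρ := pR1) ss sa sa (by decide +kernel) (by simp only [hθ]; decide +kernel)
  have h4 := D.shift N (ρ := pR1) (sz * sa) ss ss (by decide +kernel)
    (by simp only [hθ]; decide +kernel)
  rw [D.sm_st] at h1
  obtain ⟨k, hk, -, hcom⟩ := D.cent_data h1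
  have hz := hcom sz h2
  have ha := hcom sa h3
  have hs := hcom ss h4
  simp only [sz, ss, sa, kp_values] at hz hs ha
  obtain ⟨v, hv, rfl⟩ := cent_zas k hz ha hs
  obtain ⟨i, hw⟩ : ∃ i, N.n⁻¹ * D.κ pR1 * N.n * (D.κ pR1)⁻¹ = D.sm ⟨v, i⟩ := by
    rcases hk with hk | hk
    · exact ⟨false, by rw [hk, D.sm_false]⟩
    · exact ⟨true, by rw [hk, D.sm_true]⟩
  have key : ∀ (m : S32) (v : K4) (i : Bool), Cent m → m.i = false → v.g = false →
      (m * (φq ⟨v, i⟩ * ⟨v, i⟩)).i = false ∧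
      (pR1 * kp m.v = kp (m * (φq ⟨v, i⟩ * ⟨v, i⟩)).v * pR1 → m = se ∨ m = sz * ss) := by
    decide +kernel
  obtain ⟨hi', hm'⟩ := key m v i hmc hmi hv
  rcases hm' (D.square_shift N φq hθ (by decide +kernel) hw hm hmi hi') with e | e <;>
    rw [hm, e]
  · exact Or.inl D.sm_se
  · exact Or.inr rfl

/-- The generators for the case β: `r`, `q` and `μ = (rq)²`. -/
theorem beta_data (hF : D.HasFlags Fβ) :
    ∃ R Q : NEl D, (∀ v, R.θ v = θα false v) ∧ R.n * R.n = 1 ∧
      R.n * D.κ pD * R.n⁻¹ = D.κ pD ∧ (∀ v, Q.θ v = φq v) ∧ Q.n * Q.n = 1 ∧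
      ∃ μ, (μ = se ∨ μ = ss) ∧ R.n * Q.n * (R.n * Q.n) = D.sm μ := by
  obtain ⟨R₀, Q₀, hR₀, hQ₀⟩ := D.exists_rq hF
  obtain ⟨R, hR, hR2, hRd⟩ := D.alpha_adjust false R₀ hR₀
  obtain ⟨Q, hQ, hQ2⟩ : ∃ Q : NEl D, (∀ v, Q.θ v = φq v) ∧ Q.n * Q.n = 1 := by
    rcases D.sq_q Q₀ hQ₀ with h | h
    · exact ⟨Q₀, hQ₀, h⟩
    · refine ⟨Q₀.comp (D.inner st), fun v => ?_, ?_⟩
      · rw [NEl.comp_θ]; show Q₀.θ (st * v * (st * st * st)) = _
        rw [inner_facts.2.1, hQ₀]
      · show Q₀.n * D.sm st * (Q₀.n * D.sm st) = 1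
        have h1 := Q₀.conj (sz * ss * st)
        rw [hQ₀, show φq (sz * ss * st) = st by decide +kernel] at h1
        calc Q₀.n * D.sm st * (Q₀.n * D.sm st)
            = Q₀.n * (D.sm st * Q₀.n) * D.sm st := by group
          _ = Q₀.n * Q₀.n * (D.sm (sz * ss * st) * D.sm st) := by rw [← h1]; group
          _ = 1 := by
            rw [h, ← D.sm_mul, ← D.sm_mul, show sz * ss * (sz * ss * st * st) = se by decide +kernel,
              D.sm_se]
  have hRQ : ∀ v, (R.comp Q).θ v = φu v := fun v => by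
    rw [NEl.comp_θ, hR, hQ]; revert v; decide +kernel
  refine ⟨R, Q, hR, hR2, hRd, hQ, hQ2, ?_⟩
  rcases D.sq_u (R.comp Q) hRQ with h | h
  · exact ⟨se, Or.inl rfl, h.trans D.sm_se.symm⟩
  · exact ⟨ss, Or.inr rfl, h.trans D.sm_s.symm⟩

end Data

end Cfsg.Agent.X4S75
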