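import Cfsg.Agent.X4S75.Alpha

/-!
The configuration in which `tz, ts, tzs` are fused to `t`: the rules for commuting involutions.
-/

namespace Cfsg.Agent.X4S75

theorem invol_cases (k : K) (h : k * k = 1) :
    k = 1 ∨ IsConj k pS ∨ IsConj k pZ ∨ IsConj k (pZ * pS) := by
  have hk : ∀ i, k (k i) = i := fun i => by rw [← Equiv.Perm.mul_apply, h]; rfl
  have h2 := forall_perm (fun f => (∀ i, f (f i) = i) →
    (∀ i, f i = (1 : K) i) ∨ ((List.finRange 7).filter fun i => decide (f i ≠ i)).length = 2 ∨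
      ((List.finRange 7).filter fun i => decide (f i ≠ i)).length = 4 ∨
      ((List.finRange 7).filter fun i => decide (f i ≠ i)).length = 6)
    (by decide +kernel) k hk
  have hS : pS * pS = 1 ∧ pZ * pZ = 1 ∧ pZ * pS * (pZ * pS) = 1 := by decide +kernel
  rcases h2 with e | e | e | e
  · exact Or.inl (perm_ext e)
  · exact Or.inr (Or.inl (isConj_of_nMoved h hS.1 (Eq.trans e nMoved_values.1.symm)))
  · exact Or.inr (Or.inr (Or.inl (isConj_of_nMoved h hS.2.1 (Eq.trans e nMoved_values.2.1.symm))))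
  · exact Or.inr (Or.inr (Or.inr (isConj_of_nMoved h hS.2.2 (Eq.trans e nMoved_values.2.2.symm))))

namespace Data

variable {G : Type*} [Group G] (D : Data G) (hF : D.HasFlags Fβ)
include hF

theorem not_inF_κ {k : K} (h : k * k = 1) : ¬ D.InF (D.κ k) := by
  obtain ⟨f1, f2, -⟩ := hF
  rcases invol_cases k h with e | e | e | e
  · rw [e, map_one]; exact D.not_inF_one
  · rw [D.inF_κ_congr e, f1]; simp [Fβ]
  · rw [D.inF_κ_congr e, show pZ = pA * pG * (pA * pG) by decide +kernel]
    exact D.not_inF_square _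
  · rw [D.inF_κ_congr e, f2]; simp [Fβ]

theorem inF_κt {k : K} (h : k * k = 1) : D.InF (D.κ k * D.t) := by
  obtain ⟨-, -, f3, f4, f5⟩ := hF
  rcases invol_cases k h with e | e | e | e
  · rw [e, map_one, one_mul]; exact D.inF_t
  · rw [D.inF_κt_congr e, f3]; rfl
  · rw [D.inF_κt_congr e, f5]; rfl
  · rw [D.inF_κt_congr e, f4]; rfl

/-- The conjugates of `t` in its centralizer. -/
theorem inF_cent {c : G} (hc : Commute c D.t) :
    D.InF c ↔ ∃ k, k * k = 1 ∧ c = D.κ k * D.t := by
  constructor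
  · intro h
    have h2 := D.inF_sq h
    obtain ⟨k, hk | hk⟩ := D.cover c hc.eq <;> rw [hk] at h2 h
    · exact absurd h (D.not_inF_κ hF (D.inj (by rw [map_mul, map_one, h2])))
    · exact ⟨k, D.inj (by rw [map_one, ← D.κ_t_sq, h2]), hk⟩
  · rintro ⟨k, hk, rfl⟩
    exact D.inF_κt hF hk

/-- Two commuting conjugates of `t` have no conjugate of `t` as product. -/
theorem inF_mul_not {x y : G} (hx : D.InF x) (hy : D.InF y) (h : Commute x y) :
    ¬ D.InF (x * y) := by
  obtain ⟨g, rfl⟩ := isConj_iff.1 hx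
  have h1 : Commute (g⁻¹ * y * g) D.t := by
    have := h.symm.conj g⁻¹
    simpa [mul_assoc] using this
  obtain ⟨k, hk, hk'⟩ := (D.inF_cent hF h1).1 (by
    have := D.inF_conj g⁻¹ hy; rwa [inv_inv] at this)
  have e : g * D.t * g⁻¹ * y = g * D.κ k * g⁻¹ := by
    have : y = g * (D.κ k * D.t) * g⁻¹ := by rw [← hk']; group
    rw [this, show g * D.t * g⁻¹ * (g * (D.κ k * D.t) * g⁻¹) = g * (D.t * D.κ k * D.t) * g⁻¹ by group,
      D.comm, mul_assoc (D.κ k), D.sq, mul_one]
  rw [e, D.inF_conj_iff]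
  exact D.not_inF_κ hF hk

/-- A conjugate of `t` times a commuting involution of the other kind is one again. -/
theorem inF_mul {x y : G} (hx : D.InF x) (hy2 : y * y = 1) (hy : ¬ D.InF y) (h : Commute x y) :
    D.InF (x * y) := by
  obtain ⟨g, rfl⟩ := isConj_iff.1 hx
  have h1 : Commute (g⁻¹ * y * g) D.t := by
    have := h.symm.conj g⁻¹
    simpa [mul_assoc] using this
  obtain ⟨k, hk | hk⟩ := D.cover _ h1.eq
  · have h2 : D.κ (k * k) = 1 := by
      rw [map_mul, ← hk, show g⁻¹ * y * g * (g⁻¹ * y * g) = g⁻¹ * (y * y) * g by group, hy2]; group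
    have hkk : k * k = 1 := D.inj (by rw [h2, map_one])
    have : g * D.t * g⁻¹ * y = g * (D.κ k * D.t) * g⁻¹ := by
      rw [← D.comm, ← hk]; group
    rw [this, D.inF_conj_iff]
    exact D.inF_κt hF hkk
  · have h2 : D.κ (k * k) = 1 := by
      rw [← D.κ_t_sq, ← hk, show g⁻¹ * y * g * (g⁻¹ * y * g) = g⁻¹ * (y * y) * g by group, hy2]
      group
    exfalso; apply hy
    rw [show y = g * (g⁻¹ * y * g) * g⁻¹ by group, hk, D.inF_conj_iff]
    exact D.inF_κt hF (D.inj (by rw [h2, map_one]))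

theorem inF_of_mul {x y : G} (hy2 : y * y = 1) (hy : ¬ D.InF y) (h : Commute x y)
    (hxy : D.InF (x * y)) : D.InF x := by
  have := D.inF_mul hF hxy hy2 hy (h.mul_left (Commute.refl y))
  rwa [mul_assoc, hy2, mul_one] at this

end Data

end Cfsg.Agent.X4S75
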