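import Cfsg.Agent.X4S75.Points

/-!
Centralisers of small subgroups of `S₇`, by kernel evaluation.
-/

namespace Cfsg.Agent.X4S75

/-- Commuting, pointwise. -/
abbrev CommF (f : Fin 7 → Fin 7) (σ : K) : Prop := ∀ i, f (σ i) = σ (f i)

theorem commF_of_commute {k σ : K} (h : Commute k σ) : CommF k σ := fun i => by
  have := congrFun (congrArg (fun u : K => (u : Fin 7 → Fin 7)) h.eq) i
  simpa using this

theorem perm_ext {k : K} {σ : K} (h : ∀ i, k i = σ i) : k = σ := Equiv.ext h

theorem cent_zgsd (k : K) (hz : Commute k pZ) (hg : Commute k pG) (hs : Commute k pS)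
    (hd : Commute k pD) : k = 1 ∨ k = pZ ∨ k = pG ∨ k = pG * pZ := by
  have := forall_perm (fun f => CommF f pS → CommF f pD → CommF f pZ → CommF f pG →
    (∀ i, f i = (1 : K) i) ∨ (∀ i, f i = pZ i) ∨ (∀ i, f i = pG i) ∨ (∀ i, f i = (pG * pZ) i))
    (by decide +kernel) k (commF_of_commute hs) (commF_of_commute hd) (commF_of_commute hz)
    (commF_of_commute hg)
  exact this.imp perm_ext (fun h => h.imp perm_ext (fun h => h.imp perm_ext perm_ext))

theorem cent_zgs (k : K) (hz : Commute k pZ) (hg : Commute k pG) (hs : Commute k pS) :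
    ∃ v : K4, v.a = false ∧ k = kp v := by
  obtain ⟨v, hv, h⟩ := forall_perm (fun f => CommF f pS → CommF f pZ → CommF f pG →
    ∃ v : K4, v.a = false ∧ ∀ i, f i = kp v i)
    (by decide +kernel) k (commF_of_commute hs) (commF_of_commute hz) (commF_of_commute hg)
  exact ⟨v, hv, perm_ext h⟩

theorem cent_zas (k : K) (hz : Commute k pZ) (ha : Commute k pA) (hs : Commute k pS) :
    ∃ v : K4, v.g = false ∧ k = kp v := by
  obtain ⟨v, hv, h⟩ := forall_perm (fun f => CommF f pS → CommF f pA → CommF f pZ →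
    ∃ v : K4, v.g = false ∧ ∀ i, f i = kp v i)
    (by decide +kernel) k (commF_of_commute hs) (commF_of_commute ha) (commF_of_commute hz)
  exact ⟨v, hv, perm_ext h⟩

theorem cube_cent_zg (k : K) (hz : Commute k pZ) (hg : Commute k pG) (h3 : k * k * k = 1) :
    k = 1 ∨ k = pD ∨ k = pD * pD := by
  have h : ∀ i, k (k (k i)) = i := fun i => by rw [← Equiv.Perm.mul_apply, ← Equiv.Perm.mul_apply, h3]; rfl
  have := forall_perm (fun f => CommF f pG → CommF f pZ → (∀ i, f (f (f i)) = i) →
    (∀ i, f i = (1 : K) i) ∨ (∀ i, f i = pD i) ∨ (∀ i, f i = (pD * pD) i))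
    (by decide +kernel) k (commF_of_commute hg) (commF_of_commute hz) h
  exact this.imp perm_ext (fun h => h.imp perm_ext perm_ext)

theorem no_cube (k : K) (h3 : k * k * k = 1) :
    (Commute k pZ → Commute k (pG * pS) → k = 1) ∧ (Commute k pZ → Commute k (pA * pS) → k = 1) ∧
    (Commute k pS → Commute k pG → k = 1) ∧ (Commute k pS → Commute k (pG * pZ) → k = 1) := by
  have h : ∀ i, k (k (k i)) = i := fun i => by rw [← Equiv.Perm.mul_apply, ← Equiv.Perm.mul_apply, h3]; rfl
  have := forall_perm (fun f => (∀ i, f (f (f i)) = i) →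
    (CommF f pZ → CommF f (pG * pS) → ∀ i, f i = (1 : K) i) ∧
    (CommF f pZ → CommF f (pA * pS) → ∀ i, f i = (1 : K) i) ∧
    (CommF f pS → CommF f pG → ∀ i, f i = (1 : K) i) ∧
    (CommF f pS → CommF f (pG * pZ) → ∀ i, f i = (1 : K) i))
    (by decide +kernel) k h
  exact ⟨fun a b => perm_ext (this.1 (commF_of_commute a) (commF_of_commute b)),
    fun a b => perm_ext (this.2.1 (commF_of_commute a) (commF_of_commute b)),
    fun a b => perm_ext (this.2.2.1 (commF_of_commute a) (commF_of_commute b)),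
    fun a b => perm_ext (this.2.2.2 (commF_of_commute a) (commF_of_commute b))⟩

theorem no_four (k : K) (hzs : Commute k (pZ * pS)) :
    (Commute k pG → k * k = 1) ∧ (Commute k (pG * pZ) → k * k = 1) := by
  have := forall_perm (fun f => CommF f (pZ * pS) →
    (CommF f pG → ∀ i, f (f i) = i) ∧ (CommF f (pG * pZ) → ∀ i, f (f i) = i))
    (by decide +kernel) k (commF_of_commute hzs)
  exact ⟨fun a => perm_ext fun i => this.1 (commF_of_commute a) i,
    fun a => perm_ext fun i => this.2 (commF_of_commute a) i⟩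

theorem no_five (k : K) (hzs : Commute k (pZ * pS)) (h5 : k ^ 5 = 1) : k = 1 := by
  have h : ∀ i, k (k (k (k (k i)))) = i := fun i => by
    simp only [← Equiv.Perm.mul_apply]
    rw [show k * (k * (k * (k * k))) = k ^ 5 by simp [pow_succ, mul_assoc], h5]; rfl
  exact perm_ext (forall_perm (fun f => CommF f (pZ * pS) → (∀ i, f (f (f (f (f i)))) = i) →
    ∀ i, f i = (1 : K) i) (by decide +kernel) k (commF_of_commute hzs) h)

end Cfsg.Agent.X4S75
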