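import Cfsg.Agent.X4S75.Normal

/-!
Centralizers inside a model: their order and the number of conjugates of `t` in them.
-/

namespace Cfsg.Agent.X4S75

/-- The number of elements of the model commuting with `v`. -/
def nComm {α : Type} [Fintype α] [DecidableEq α] [Mul α] (v : α) : ℕ :=
  Fintype.card {w : α // w * v = v * w}

namespace Data

variable {G : Type*} [Group G] [Finite G] (D : Data G)
variable {α : Type} [Fintype α] [DecidableEq α] [Mul α] (f : α → G)

omit [Finite G] in
theorem exists_range_subgroup [Finite G] (hmul : ∀ v w, f (v * w) = f v * f w) (e : α)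
    (he : f e = 1) (P : α → Prop) (hPe : P e) (hP : ∀ v w, P v → P w → P (v * w)) :
    ∃ Q : Subgroup G, (Q : Set G) = f '' {v | P v} := by
  let Q : Submonoid G :=
    { carrier := f '' {v | P v}
      one_mem' := ⟨e, hPe, he⟩
      mul_mem' := by rintro _ _ ⟨v, hv, rfl⟩ ⟨w, hw, rfl⟩; exact ⟨v * w, hP v w hv hw, hmul v w⟩ }
  refine ⟨{ Q with inv_mem' := fun {x} hx => ?_ }, rfl⟩
  have h : x⁻¹ = x ^ (orderOf x - 1) := inv_eq_of_mul_eq_one_right (by
    rw [← pow_succ', Nat.sub_add_cancel (orderOf_pos x), pow_orderOf_eq_one])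
  rw [h]
  exact Q.pow_mem hx _

theorem comm_subgroup (hinj : Function.Injective f) (hmul : ∀ v w, f (v * w) = f v * f w) (e : α)
    (he : f e = 1) (v : α) :
    ∃ Q : Subgroup G, (Q : Set G) = f '' {w | w * v = v * w} ∧ Nat.card Q = nComm v ∧
      ∀ y ∈ Q, y * f v = f v * y := by
  obtain ⟨Q, hQ⟩ := exists_range_subgroup f hmul e he (fun w => w * v = v * w)
    (hinj (by rw [hmul, hmul, he]; group)) (fun a b ha hb => hinj (by
      have ha' := congrArg f ha
      have hb' := congrArg f hb
      simp only [hmul] at ha' hb' ⊢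
      rw [mul_assoc, hb', ← mul_assoc, ha', mul_assoc]))
  refine ⟨Q, hQ, ?_, fun y hy => ?_⟩
  · change Nat.card (Q : Set G) = _
    rw [hQ, Nat.card_image_of_injective hinj]
    exact Nat.card_eq_fintype_card
  · have : y ∈ (Q : Set G) := hy
    rw [hQ] at this
    obtain ⟨w, hw, rfl⟩ := this
    rw [← hmul, ← hmul]; exact congrArg f hw

/-- A conjugate of `t` has no centralizer of order divisible by 64. -/
theorem not_inF_of_nComm (hinj : Function.Injective f) (hmul : ∀ v w, f (v * w) = f v * f w) (e : α)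
    (he : f e = 1) (v : α) (h64 : nComm v = 64) : ¬ D.InF (f v) := by
  intro hx
  obtain ⟨Q, -, hc, hcomm⟩ := comm_subgroup f hinj hmul e he v
  have hle : Q ≤ Subgroup.centralizer ({f v} : Set G) := fun y hy =>
    Subgroup.mem_centralizer_singleton_iff.2 (hcomm y hy)
  have h := Subgroup.card_dvd_of_le hle
  rw [hc, h64, D.card_centralizer_of_inF hx] at h
  exact absurd h (by norm_num)

/-- The conjugates of `t` in a centralizer of order 32 are as many as in `sub32`. -/
theorem card_inF_comm (hinj : Function.Injective f) (hmul : ∀ v w, f (v * w) = f v * f w) (e : α)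
    (he : f e = 1) (v : α) (h32 : nComm v = 32) (hx : D.InF (f v)) :
    Nat.card {w : α // w * v = v * w ∧ D.InF (f w)} = Nat.card {u : S32 // D.InF (D.sm u)} := by
  obtain ⟨Q, hQset, hQc, hQx⟩ := comm_subgroup f hinj hmul e he v
  obtain ⟨g, hg⟩ := isConj_iff.1 hx
  let P : Subgroup G := D.sub32.map (MulAut.conj g).toMonoidHom
  have hP : Nat.card P = 32 := by
    rw [← D.card_sub32]
    exact (Nat.card_congr (D.sub32.equivMapOfInjective _ (MulAut.conj g).injective).toEquiv).symm
  have hPx : ∀ y ∈ P, y * f v = f v * y := by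
    rintro _ ⟨_, ⟨w, rfl⟩, rfl⟩
    show g * D.sm w * g⁻¹ * f v = f v * (g * D.sm w * g⁻¹)
    rw [← hg]
    calc g * D.sm w * g⁻¹ * (g * D.t * g⁻¹) = g * (D.sm w * D.t) * g⁻¹ := by group
      _ = g * D.t * g⁻¹ * (g * D.sm w * g⁻¹) := by rw [D.sm_comm_t]; group
  obtain ⟨c, -, hc⟩ := D.exists_conj_32 hx P Q hP (hQc.trans h32) hPx hQx
  have h : ∀ u, ∃ w : {w : α // w * v = v * w},
      f w.1 = c * g * D.sm u * (c * g)⁻¹ := by
    intro u
    have : c * (g * D.sm u * g⁻¹) * c⁻¹ ∈ (Q : Set G) := hc _ ⟨_, ⟨u, rfl⟩, rfl⟩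
    rw [hQset] at this
    obtain ⟨w, hw, he⟩ := this
    exact ⟨⟨w, hw⟩, by rw [he]; group⟩
  choose φ hφ using h
  have hφi : Function.Injective φ := fun a b hab => D.sm_injective <| by
    have h1 := hφ a
    rw [hab, hφ b] at h1
    simpa using h1.symm
  have hφb : Function.Bijective φ := by
    rw [Fintype.bijective_iff_injective_and_card]
    refine ⟨hφi, ?_⟩
    rw [show Fintype.card {w : α // w * v = v * w} = 32 from h32]
    decide +kernel
  rw [← Nat.card_congr (Equiv.subtypeSubtypeEquivSubtypeInter (fun w => w * v = v * w)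
    (fun w => D.InF (f w)))]
  refine (Nat.card_congr (Equiv.subtypeEquiv (Equiv.ofBijective φ hφb) fun u => ?_)).symm
  rw [Equiv.ofBijective_apply, hφ, D.inF_conj_iff]

end Data

end Cfsg.Agent.X4S75
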