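import Mathlib.Algebra.Group.Basic
import Mathlib.Data.Fintype.Prod
import Mathlib.SetTheory.Cardinal.NatCard
import Mathlib.Tactic.DeriveFintype
import Mathlib.Tactic.Group

/-!
Models of finite 2-groups built in layers: each layer adjoins one generator whose square and whose
action on the previous layer are prescribed.
-/

namespace Cfsg.Agent.X4S75

/-- The layer over `α` adjoining a generator with action `θ` and square `c`. -/
structure Ext (α : Type) (θ : α → α) (c : α) where
  v : α
  i : Bool
deriving DecidableEq, Fintype

namespace Ext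

variable {α : Type} [Mul α] {θ : α → α} {c : α}

instance : Mul (Ext α θ c) :=
  ⟨fun p q => match p.i, q.i with
    | false, j => ⟨p.v * q.v, j⟩
    | true, false => ⟨p.v * θ q.v, true⟩
    | true, true => ⟨p.v * θ q.v * c, false⟩⟩

/-- The map of the layer induced by a map of the previous one and the image of the generator. -/
def toG {G : Type*} [Group G] (f : α → G) (x : G) (p : Ext α θ c) : G :=
  f p.v * (if p.i then x else 1)

/-- The action of a further generator, given on the previous layer and on the generator. -/
def act (θ' : α → Ext α θ c) (xi : Ext α θ c) (p : Ext α θ c) : Ext α θ c :=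
  if p.i then θ' p.v * xi else θ' p.v

variable {G : Type*} [Group G] {f : α → G} {x : G}

theorem toG_mul (hmul : ∀ v w, f (v * w) = f v * f w) (hconj : ∀ v, x * f v = f (θ v) * x)
    (hsq : x * x = f c) (p q : Ext α θ c) : toG f x (p * q) = toG f x p * toG f x q := by
  obtain ⟨v, i⟩ := p
  obtain ⟨w, j⟩ := q
  cases i with
  | false =>
    show toG f x (⟨v * w, j⟩ : Ext α θ c) = _
    simp [toG, hmul, mul_assoc]
  | true =>
    cases j with
    | false =>
      show toG f x (⟨v * θ w, true⟩ : Ext α θ c) = _
      simp [toG, hmul, mul_assoc, hconj]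
    | true =>
      show toG f x (⟨v * θ w * c, false⟩ : Ext α θ c) = _
      simp only [toG, hmul, ↓reduceIte, Bool.false_eq_true, mul_one]
      rw [← hsq]
      calc f v * f (θ w) * (x * x) = f v * (f (θ w) * x) * x := by group
        _ = f v * (x * f w) * x := by rw [hconj]
        _ = f v * x * (f w * x) := by group

theorem act_conj (hmul : ∀ v w, f (v * w) = f v * f w) (hconj : ∀ v, x * f v = f (θ v) * x)
    (hsq : x * x = f c) (y : G) (θ' : α → Ext α θ c) (xi : Ext α θ c)
    (h₁ : ∀ v, y * f v = toG f x (θ' v) * y) (h₂ : y * x = toG f x xi * y) (p : Ext α θ c) :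
    y * toG f x p = toG f x (act θ' xi p) * y := by
  obtain ⟨v, i⟩ := p
  cases i with
  | false => simp [act, toG, h₁]
  | true =>
    simp only [act, ↓reduceIte]
    rw [toG_mul hmul hconj hsq]
    calc y * toG f x (⟨v, true⟩ : Ext α θ c) = y * f v * x := by simp [toG, mul_assoc]
      _ = toG f x (θ' v) * (y * x) := by rw [h₁]; group
      _ = _ := by rw [h₂]; group

omit [Mul α] in
theorem toG_injective (hinj : Function.Injective f) (hx : ∀ v w, f v * x ≠ f w) :
    Function.Injective (toG f x : Ext α θ c → G) := by
  rintro ⟨v, i⟩ ⟨w, j⟩ h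
  cases i <;> cases j <;> simp [toG] at h
  · rw [hinj h]
  · exact absurd h.symm (hx w v)
  · exact absurd h (hx v w)
  · rw [hinj h]

/-- The new generator is outside: it conjugates `f e` to `f e'` as no element of `f` does. -/
theorem not_mem_of_conj [Fintype α] (hmul : ∀ v w, f (v * w) = f v * f w)
    (hinj : Function.Injective f) (e e' : α) (hxe : x * f e = f e' * x)
    (hd : ∀ u : α, u * e ≠ e' * u) (v w : α) : f v * x ≠ f w := by
  intro h
  have hsurj : Function.Surjective (fun u => v * u) := Finite.surjective_of_injective fun a b hab => by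
    have := congrArg f hab
    simp only [hmul, mul_right_inj] at this
    exact hinj this
  obtain ⟨u, rfl⟩ := hsurj w
  rw [hmul, mul_right_inj] at h
  subst h
  rw [← hmul, ← hmul] at hxe
  exact hd u (hinj hxe)

end Ext

end Cfsg.Agent.X4S75
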