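import Cfsg.Agent.X4S75.Setup

/-!
Elements normalising the Sylow 2-subgroup of the centralizer, as maps of the model `S32`.
-/

namespace Cfsg.Agent.X4S75

/-- The model element `1`. -/
def se : S32 := ⟨k0, false⟩
/-- The model element `t`. -/
def st : S32 := ⟨k0, true⟩
/-- The model element `z`. -/
def sz : S32 := ⟨kz, false⟩
/-- The model element `s`. -/
def ss : S32 := ⟨ks, false⟩
/-- The model element `a`. -/
def sa : S32 := ⟨ka, false⟩
/-- The model element `g`. -/
def sg : S32 := ⟨kg, false⟩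

/-- Central in the model. -/
def Cent (v : S32) : Prop := ∀ w, v * w = w * v

instance : DecidablePred Cent := fun v => inferInstanceAs (Decidable (∀ w, v * w = w * v))

theorem s32_facts : (∀ v : S32, ∃ w, v * w = se) ∧ (∀ v : S32, v * v = se ∨ v * v = sz) ∧
    sz = sa * sg * (sa * sg) ∧ sz ≠ se ∧ Cent st ∧ Cent sz ∧ Cent ss ∧ se * se = se := by
  decide +kernel

theorem cent_cases : ∀ v : S32, Cent v → v = se ∨ v = sz ∨ v = ss ∨ v = sz * ss ∨ v = st ∨
    v = sz * st ∨ v = ss * st ∨ v = sz * ss * st := by decide +kernel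

theorem cent_moved : ∀ w : K4, Cent ⟨w, false⟩ → nMoved (kp w) = 2 → w = ks := by decide +kernel

namespace Data

variable {G : Type*} [Group G] (D : Data G)

theorem sm_se : D.sm se = 1 := by simp [se, sm_false, kp_values.1]

theorem sm_st : D.sm st = D.t := by simp [st, sm_true, kp_values.1]

/-- The Sylow 2-subgroup `⟨t⟩ × D₈ × ⟨s⟩` of the centralizer. -/
def sub32 : Subgroup G where
  carrier := Set.range D.sm
  one_mem' := ⟨se, D.sm_se⟩
  mul_mem' := by rintro _ _ ⟨v, rfl⟩ ⟨w, rfl⟩; exact ⟨v * w, D.sm_mul v w⟩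
  inv_mem' := by
    rintro _ ⟨v, rfl⟩
    obtain ⟨w, hw⟩ := s32_facts.1 v
    exact ⟨w, (inv_eq_of_mul_eq_one_right (by rw [← sm_mul, hw, sm_se])).symm⟩

theorem card_sub32 : Nat.card D.sub32 = 32 := by
  change Nat.card (Set.range D.sm) = 32
  rw [← Nat.card_congr (Equiv.ofInjective _ D.sm_injective), Nat.card_eq_fintype_card]
  decide +kernel

theorem sm_comm_t (v : S32) : D.sm v * D.t = D.t * D.sm v := by
  rw [← sm_st, ← sm_mul, ← sm_mul, s32_facts.2.2.2.2.1 v]

theorem card_centralizer_of_inF [Finite G] {x : G} (hx : D.InF x) :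
    Nat.card (Subgroup.centralizer ({x} : Set G)) = 10080 := by
  obtain ⟨g, rfl⟩ := isConj_iff.1 hx
  rw [← D.card_centralizer]
  refine Nat.card_congr ⟨fun c => ⟨g⁻¹ * c * g, ?_⟩, fun c => ⟨g * c * g⁻¹, ?_⟩,
    fun c => by apply Subtype.ext; simp [mul_assoc], fun c => by apply Subtype.ext; simp [mul_assoc]⟩
  · have h := Subgroup.mem_centralizer_singleton_iff.1 c.2
    rw [Subgroup.mem_centralizer_singleton_iff]
    calc g⁻¹ * c * g * D.t = g⁻¹ * ((c : G) * (g * D.t * g⁻¹)) * g := by group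
      _ = D.t * (g⁻¹ * c * g) := by rw [h]; group
  · have h := Subgroup.mem_centralizer_singleton_iff.1 c.2
    rw [Subgroup.mem_centralizer_singleton_iff]
    calc g * c * g⁻¹ * (g * D.t * g⁻¹) = g * ((c : G) * D.t) * g⁻¹ := by group
      _ = g * D.t * g⁻¹ * (g * c * g⁻¹) := by rw [h]; group

/-- Two subgroups of order 32 in the centralizer of a conjugate of `t` are conjugate there. -/
theorem exists_conj_32 [Finite G] {x : G} (hx : D.InF x) (P Q : Subgroup G)
    (hP : Nat.card P = 32) (hQ : Nat.card Q = 32) (hPx : ∀ y ∈ P, y * x = x * y)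
    (hQx : ∀ y ∈ Q, y * x = x * y) :
    ∃ c, c * x = x * c ∧ ∀ y ∈ P, c * y * c⁻¹ ∈ Q := by
  have : Fact (Nat.Prime 2) := ⟨Nat.prime_two⟩
  set H := Subgroup.centralizer ({x} : Set G)
  have hPH : P ≤ H := fun y hy => Subgroup.mem_centralizer_singleton_iff.2 (hPx y hy)
  have hQH : Q ≤ H := fun y hy => Subgroup.mem_centralizer_singleton_iff.2 (hQx y hy)
  have hfac : (Nat.card H).factorization 2 = 5 := by
    rw [show Nat.card H = 2 ^ 5 * 315 from D.card_centralizer_of_inF hx,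
      Nat.factorization_mul (by norm_num) (by norm_num), Finsupp.add_apply,
      Nat.prime_two.factorization_pow, Finsupp.single_eq_same,
      Nat.factorization_eq_zero_of_not_dvd (by norm_num)]
  have hcard : ∀ R : Subgroup G, R ≤ H → Nat.card R = 32 →
      Nat.card (R.subgroupOf H) = 2 ^ (Nat.card H).factorization 2 := fun R hR h => by
    rw [hfac, Nat.card_congr (Subgroup.subgroupOfEquivOfLe hR).toEquiv, h]; rfl
  obtain ⟨c, hc⟩ := MulAction.exists_smul_eq H (Sylow.ofCard _ (hcard P hPH hP))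
    (Sylow.ofCard _ (hcard Q hQH hQ))
  refine ⟨c, Subgroup.mem_centralizer_singleton_iff.1 c.2, fun y hy => ?_⟩
  have hy' : (⟨y, hPH hy⟩ : H) ∈ (Sylow.ofCard _ (hcard P hPH hP) : Subgroup H) := by
    simpa [Sylow.coe_ofCard, Subgroup.mem_subgroupOf] using hy
  have h2 : c * ⟨y, hPH hy⟩ * c⁻¹ ∈ (Sylow.ofCard _ (hcard Q hQH hQ) : Subgroup H) := by
    rw [← hc, Sylow.coe_subgroup_smul]
    exact Subgroup.smul_mem_pointwise_smul _ (MulAut.conj c) _ hy'
  simpa [Sylow.coe_ofCard, Subgroup.mem_subgroupOf] using h2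

end Data

/-- An element normalising the Sylow 2-subgroup, with its action on the model. -/
structure NEl {G : Type*} [Group G] (D : Data G) where
  /-- the element -/
  n : G
  /-- its action -/
  θ : S32 → S32
  conj : ∀ v, n * D.sm v = D.sm (θ v) * n

namespace NEl

variable {G : Type*} [Group G] {D : Data G} (N : NEl D)

theorem conj' (v : S32) : N.n * D.sm v * N.n⁻¹ = D.sm (N.θ v) := by
  rw [N.conj]; group

theorem θ_mul (v w : S32) : N.θ (v * w) = N.θ v * N.θ w := D.sm_injective <| by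
  rw [D.sm_mul, ← N.conj', ← N.conj', ← N.conj', D.sm_mul]; group

theorem θ_injective : Function.Injective N.θ := fun v w h => D.sm_injective <| by
  have h1 := N.conj v
  rw [h, ← N.conj w] at h1
  exact mul_left_cancel h1

theorem θ_surjective : Function.Surjective N.θ := Finite.surjective_of_injective N.θ_injective

theorem θ_se : N.θ se = se := D.sm_injective <| by
  rw [← N.conj', Data.sm_se]; group

theorem θ_sz : N.θ sz = sz := by
  rcases s32_facts.2.1 (N.θ (sa * sg)) with h | h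
  · rw [← θ_mul, ← s32_facts.2.2.1] at h
    exact absurd (N.θ_injective (h.trans N.θ_se.symm)) s32_facts.2.2.2.1
  · rwa [← θ_mul, ← s32_facts.2.2.1] at h

theorem θ_cent {v : S32} (hv : Cent v) : Cent (N.θ v) := fun w => by
  obtain ⟨u, rfl⟩ := N.θ_surjective w
  rw [← θ_mul, ← θ_mul, hv u]

theorem inF_iff (v : S32) : D.InF (D.sm (N.θ v)) ↔ D.InF (D.sm v) := by
  rw [← N.conj', D.inF_conj_iff]

theorem fl_eq {F : Flags} (hF : D.HasFlags F) (v : S32) : fl F (N.θ v) = fl F v := by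
  rw [Bool.eq_iff_iff, ← D.inF_sm hF, ← D.inF_sm hF, N.inF_iff]

theorem n_comm_of_fix (h : N.θ st = st) : N.n * D.t = D.t * N.n := by
  have := N.conj st
  rwa [h, D.sm_st] at this

/-- An element fixing `t` keeps the complement and the cycle shapes. -/
theorem fix_shape (h : N.θ st = st) (v : K4) :
    ∃ w, N.θ ⟨v, false⟩ = ⟨w, false⟩ ∧ IsConj (kp v) (kp w) := by
  obtain ⟨k, hk⟩ := D.cover _ (N.n_comm_of_fix h)
  have hc := N.conj' ⟨v, false⟩
  rcases hN : N.θ ⟨v, false⟩ with ⟨w, i⟩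
  rw [hN, D.sm_false] at hc
  have hκ : N.n * D.κ (kp v) * N.n⁻¹ = D.κ (k * kp v * k⁻¹) := by
    rcases hk with hk | hk <;> rw [hk]
    · simp [map_mul, map_inv]
    · rw [map_mul, map_mul, map_inv, mul_inv_rev,
        show D.κ k * D.t * D.κ (kp v) * (D.t⁻¹ * (D.κ k)⁻¹) =
          D.κ k * (D.t * D.κ (kp v)) * D.t⁻¹ * (D.κ k)⁻¹ by group, D.comm]
      group
  cases i
  · refine ⟨w, rfl, ?_⟩
    rw [D.sm_false, hκ] at hc
    exact isConj_iff.2 ⟨k, D.inj hc⟩
  · rw [D.sm_true, hκ] at hc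
    exact absurd (show D.κ ((kp w)⁻¹ * (k * kp v * k⁻¹)) = D.t by
      rw [map_mul, map_inv, hc]; group) (D.out _)

theorem fix_ss (h : N.θ st = st) : N.θ ss = ss := by
  obtain ⟨w, hw, hconj⟩ := N.fix_shape h ks
  have hc : Cent (⟨w, false⟩ : S32) := hw ▸ N.θ_cent s32_facts.2.2.2.2.2.2.1
  have hn : nMoved (kp w) = 2 := by
    rw [← nMoved_of_isConj hconj, kp_values.2.2.1]; exact nMoved_values.1
  rw [cent_moved w hc hn] at hw
  exact hw

theorem fix_cent_of (h1 : N.θ st = st) (h2 : N.θ ss = ss) {v : S32} (hv : Cent v) : N.θ v = v := by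
  rcases cent_cases v hv with h | h | h | h | h | h | h | h <;> subst h <;>
    simp only [θ_mul, θ_se, θ_sz, h1, h2]

/-- The product of two normalising elements. -/
def comp (M : NEl D) : NEl D where
  n := N.n * M.n
  θ := N.θ ∘ M.θ
  conj v := by
    rw [mul_assoc, M.conj, ← mul_assoc, N.conj]
    simp [mul_assoc]

theorem comp_θ (M : NEl D) (v : S32) : (N.comp M).θ v = N.θ (M.θ v) := rfl

end NEl

namespace Data

variable {G : Type*} [Group G] [Finite G] (D : Data G)

theorem exists_nel {v : S32} (hv : Cent v) (hx : D.InF (D.sm v)) : ∃ N : NEl D, N.θ st = v := by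
  obtain ⟨g, hg⟩ := isConj_iff.1 hx
  let P : Subgroup G := D.sub32.map (MulAut.conj g).toMonoidHom
  have hP : Nat.card P = 32 := by
    rw [← D.card_sub32]
    exact (Nat.card_congr (D.sub32.equivMapOfInjective _ (MulAut.conj g).injective).toEquiv).symm
  have hPx : ∀ y ∈ P, y * D.sm v = D.sm v * y := by
    rintro _ ⟨_, ⟨w, rfl⟩, rfl⟩
    show g * D.sm w * g⁻¹ * D.sm v = D.sm v * (g * D.sm w * g⁻¹)
    rw [← hg]
    calc g * D.sm w * g⁻¹ * (g * D.t * g⁻¹) = g * (D.sm w * D.t) * g⁻¹ := by group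
      _ = g * D.t * g⁻¹ * (g * D.sm w * g⁻¹) := by rw [D.sm_comm_t]; group
  have hQx : ∀ y ∈ D.sub32, y * D.sm v = D.sm v * y := by
    rintro _ ⟨w, rfl⟩
    rw [← sm_mul, ← sm_mul, hv w]
  obtain ⟨c, hcx, hc⟩ := D.exists_conj_32 hx P D.sub32 hP D.card_sub32 hPx hQx
  have h : ∀ w, ∃ u, c * g * D.sm w = D.sm u * (c * g) := by
    intro w
    obtain ⟨u, hu⟩ := hc (g * D.sm w * g⁻¹) ⟨_, ⟨w, rfl⟩, rfl⟩
    refine ⟨u, ?_⟩
    rw [hu]; group
  choose θ hθ using h
  refine ⟨⟨c * g, θ, hθ⟩, D.sm_injective ?_⟩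
  have h1 : D.sm (θ st) = c * g * D.t * (c * g)⁻¹ := by rw [← D.sm_st, hθ]; group
  rw [h1, mul_inv_rev, show c * g * D.t * (g⁻¹ * c⁻¹) = c * (g * D.t * g⁻¹) * c⁻¹ by group, hg, hcx]
  group

/-- A normalising element fixing a central conjugate of `t` is trivial on the centre. -/
theorem fix_all (N : NEl D) {v : S32} (hv : Cent v) (hx : D.InF (D.sm v)) (h : N.θ v = v)
    {w : S32} (hw : Cent w) : N.θ w = w := by
  obtain ⟨M, hM⟩ := D.exists_nel hv hx
  have hex : ∀ u, ∃ w, M.θ w = N.θ (M.θ u) := fun u => M.θ_surjective _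
  choose θ' hθ' using hex
  let N' : NEl D := ⟨M.n⁻¹ * (N.n * M.n), θ', fun u => by
    have h1 := (N.comp M).conj u
    rw [NEl.comp_θ, ← hθ'] at h1
    change N.n * M.n * D.sm u = _ at h1
    rw [show M.n⁻¹ * (N.n * M.n) * D.sm u = M.n⁻¹ * (N.n * M.n * D.sm u) by group, h1,
      show D.sm (M.θ (θ' u)) = M.n * D.sm (θ' u) * M.n⁻¹ from (M.conj' _).symm]
    show _ = _
    simp [NEl.comp, mul_assoc]⟩
  have h1 : N'.θ st = st := M.θ_injective (by show M.θ (θ' st) = _; rw [hθ', hM, h])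
  have h2 : N'.θ ss = ss := N'.fix_ss h1
  obtain ⟨w', rfl⟩ := M.θ_surjective w
  have hw' : Cent w' := fun u => M.θ_injective (by rw [M.θ_mul, M.θ_mul, hw (M.θ u)])
  have h3 : θ' w' = w' := N'.fix_cent_of h1 h2 hw'
  rw [← hθ', h3]

end Data

end Cfsg.Agent.X4S75
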