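import Mathlib.GroupTheory.Perm.Fin
import Mathlib.GroupTheory.Perm.Cycle.Type

/-!
S3147: exhaustive checks over the permutations of seven points, by kernel evaluation.
-/

namespace Cfsg.Agent.X4S75

/-- All lists of `n` pairwise distinct points. -/
def injLists : ℕ → List (List (Fin 7))
  | 0 => [[]]
  | n + 1 => (injLists n).flatMap fun l =>
      ((List.finRange 7).filter fun x => !l.contains x).map (· :: l)

theorem mem_injLists : ∀ (l : List (Fin 7)), l.Nodup → l ∈ injLists l.length
  | [], _ => by simp [injLists]
  | x :: l, h => by
    rw [List.nodup_cons] at h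
    simp only [List.length_cons, injLists, List.mem_flatMap, List.mem_map, List.mem_filter]
    exact ⟨l, mem_injLists l h.2, x, ⟨List.mem_finRange x, by simp [h.1]⟩, rfl⟩

/-- The function with values `l`. -/
def fn (l : List (Fin 7)) (i : Fin 7) : Fin 7 := l.getD i.val 0

/-- A property of all permutations, checked on the lists of values. -/
theorem forall_perm (P : (Fin 7 → Fin 7) → Prop) [DecidablePred P]
    (h : (injLists 7).all (fun l => decide (P (fn l))) = true) (k : Equiv.Perm (Fin 7)) : P k := by
  have hm : List.ofFn k ∈ injLists 7 := by
    have := mem_injLists (List.ofFn k) (List.nodup_ofFn.2 k.injective)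
    simpa using this
  have := List.all_eq_true.1 h _ hm
  have he : fn (List.ofFn k) = k := by
    funext i
    fin_cases i <;> simp [fn]
  rw [he] at this
  exact of_decide_eq_true this

end Cfsg.Agent.X4S75
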