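import Cfsg.Agent.X4S75.PermSeven
import Cfsg.Agent.X4S75.Layer

/-!
The permutations of seven points used for S3147 and the model of the Sylow 2-subgroup of `S₇`.
-/

namespace Cfsg.Agent.X4S75

open Equiv

/-- The symmetric group of degree seven. -/
abbrev K := Equiv.Perm (Fin 7)

/-- `(0 1)` -/
def pA : K := swap 0 1
/-- `(2 3)` -/
def pB : K := swap 2 3
/-- `(0 2)(1 3)` -/
def pG : K := swap 0 2 * swap 1 3
/-- `(0 1)(2 3)` -/
def pZ : K := pA * pB
/-- `(4 5)` -/
def pS : K := swap 4 5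
/-- `(4 5 6)` -/
def pD : K := swap 4 5 * swap 5 6
/-- `(0 2 4)(1 3 5)` -/
def pR1 : K := swap 0 2 * swap 2 4 * (swap 1 3 * swap 3 5)
/-- `(1 2 3)` -/
def pR2 : K := swap 1 2 * swap 2 3

/-- The Sylow 2-subgroup `⟨z, s⟩⟨a, g⟩` of `S₇`, with `g * a = a * g * z`. -/
structure K4 where
  z : Bool
  s : Bool
  a : Bool
  g : Bool
deriving DecidableEq, Fintype

instance : Mul K4 :=
  ⟨fun p q => ⟨Bool.xor (Bool.xor p.z q.z) (p.g && q.a), Bool.xor p.s q.s, Bool.xor p.a q.a,
    Bool.xor p.g q.g⟩⟩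

/-- The identity of the model. -/
def k0 : K4 := ⟨false, false, false, false⟩
/-- The model element `z`. -/
def kz : K4 := ⟨true, false, false, false⟩
/-- The model element `s`. -/
def ks : K4 := ⟨false, true, false, false⟩
/-- The model element `a`. -/
def ka : K4 := ⟨false, false, true, false⟩
/-- The model element `g`. -/
def kg : K4 := ⟨false, false, false, true⟩
/-- The model element `zs`. -/
def kzs : K4 := ⟨true, true, false, false⟩

/-- The permutation of a model element. -/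
def kp (v : K4) : K :=
  (if v.z then pZ else 1) * (if v.s then pS else 1) * (if v.a then pA else 1) *
    (if v.g then pG else 1)

theorem kp_mul : ∀ v w : K4, kp (v * w) = kp v * kp w := by decide +kernel

theorem kp_injective : Function.Injective kp := by unfold Function.Injective; decide +kernel

theorem kp_values : kp k0 = 1 ∧ kp kz = pZ ∧ kp ks = pS ∧ kp ka = pA ∧ kp kg = pG ∧
    kp kzs = pZ * pS ∧ kp (kz * ka) = pB := by decide +kernel

/-- The points moved by a permutation. -/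
def nMoved (k : K) : ℕ := ((List.finRange 7).filter fun i => decide (k i ≠ i)).length

theorem nMoved_values : nMoved pS = 2 ∧ nMoved pZ = 4 ∧ nMoved (pZ * pS) = 6 := by decide +kernel

theorem rho_facts : pR1 * pR1 * pR1 = 1 ∧ pR1 * pA * pR1⁻¹ = pB ∧ pR1 * pB * pR1⁻¹ = pS ∧
    pR1 * pS * pR1⁻¹ = pA ∧ pR1 * (pZ * pS) * pR1⁻¹ = pZ * pS ∧
    pR2 * pR2 * pR2 = 1 ∧ pR2 * pZ * pR2⁻¹ = pG ∧ pR2 * pG * pR2⁻¹ = pG * pZ ∧
    pR2 * pS = pS * pR2 ∧ pR2 * pD = pD * pR2 ∧ pB * pR2 * pB⁻¹ = pR2⁻¹ := by decide +kernel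

theorem d_facts : pD * pD * pD = 1 ∧ pD ≠ 1 ∧ pD * pZ = pZ * pD ∧ pD * pG = pG * pD ∧
    pD * pA = pA * pD ∧ pS * pD * pS⁻¹ = pD * pD ∧ pS * (pD * pD) * pS⁻¹ = pD := by
  decide +kernel

end Cfsg.Agent.X4S75
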