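import Cfsg.Agent.X4S75.Normal
import Cfsg.Agent.X4S75.CentFacts

/-!
The possible fusion of the central involutions: either a subgroup of index two, or only `tz` is
conjugate to `t` among them, or exactly `tz, ts, tzs` after changing the complement.
-/

namespace Cfsg.Agent.X4S75

/-- Only `tz` fused to `t`. -/
def Fα : Flags := ⟨false, false, false, false, true⟩
/-- `tz, ts, tzs` fused to `t`. -/
def Fβ : Flags := ⟨false, false, true, true, true⟩
/-- `tz, s, zs` fused to `t`. -/
def Fβ' : Flags := ⟨true, true, false, false, true⟩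

/-- The three characters of the model used. -/
def ψ₀ (j : Fin 3) (v : S32) : Bool :=
  if j.val = 0 then v.i else if j.val = 1 then v.v.s else Bool.xor v.i v.v.s

theorem ψ₀_mul : ∀ j v w, ψ₀ j (v * w) = Bool.xor (ψ₀ j v) (ψ₀ j w) := by decide +kernel

theorem ψ₀_ne : ∀ j, ∃ v, ψ₀ j v = true := by decide +kernel

theorem stage_one_cases : ∀ F : Flags,
    (∃ j : Fin 3, (Fintype.card {v : S32 // ψ₀ j v = true ∧ fl F v = true}) % 2 = 1) ∨
    (F.ftz = false ∧ Bool.xor F.fs F.fzs = true ∧ Bool.xor F.fts F.ftzs = true) ∨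
    (F.ftz = true ∧ (F = Fα ∨ F = Fβ ∨ F = Fβ' ∨
      ((F.fs || F.fzs) = true ∧ (F.fts || F.ftzs) = true))) := by decide +kernel

/-- The model lists used in the case `D` false. -/
theorem gamma_facts :
    (∀ v : S32, ¬ Cent v → fl ⟨true, false, true, false, false⟩ v = true →
      fl ⟨true, false, true, false, false⟩ (ss * v) = false) ∧
    (∀ v : S32, ¬ Cent v → fl ⟨false, true, false, true, false⟩ v = true →
      fl ⟨false, true, false, true, false⟩ (sz * ss * v) = false) ∧
    fl ⟨true, false, true, false, false⟩ (st * sa) = true ∧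
    fl ⟨true, false, true, false, false⟩ sa = true ∧
    fl ⟨false, true, false, true, false⟩ (st * (sg * ss)) = true ∧
    fl ⟨false, true, false, true, false⟩ (sg * ss) = true ∧ ¬ Cent sa ∧ ¬ Cent (sg * ss) := by
  decide +kernel

/-- A five-cycle commuting with `(4 5)`. -/
def swap5 : K := Equiv.swap 0 1 * Equiv.swap 1 2 * Equiv.swap 2 3 * Equiv.swap 3 6

theorem five_facts : (swap5 * pS = pS * swap5) ∧ swap5 ^ 5 = 1 ∧ swap5 ≠ 1 := by decide +kernel

namespace Data

variable {G : Type*} [Group G] [Finite G] (D : Data G)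

omit [Finite G] in
theorem not_cent_of_θ (N : NEl D) {v : S32} (hv : ¬ Cent v) : ¬ Cent (N.θ v) := fun h => hv fun u =>
  N.θ_injective (by rw [N.θ_mul, N.θ_mul, h (N.θ u)])

theorem index_two_of_count {α : Type*} [Fintype α] [Mul α] (f : α → G)
    (hinj : Function.Injective f) (hmul : ∀ v w, f (v * w) = f v * f w) (ψ : α → Bool)
    (hψ : ∀ v w, ψ (v * w) = Bool.xor (ψ v) (ψ w)) (v₁ : α) (hv₁ : ψ v₁ = true)
    (N : ℕ) (hN : N % 2 = 1)
    (h : 10080 * Nat.card {v : α // ψ v = true ∧ D.InF (f v)} = N * Fintype.card α) :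
    ∃ H : Subgroup G, H.index = 2 :=
  exists_index_two_of_model D.t D.sq f hinj hmul ψ hψ v₁ hv₁ N hN (by rw [D.card_centralizer]; exact h)

theorem stage_one {F : Flags} (hF : D.HasFlags F) (j : Fin 3)
    (hj : (Fintype.card {v : S32 // ψ₀ j v = true ∧ fl F v = true}) % 2 = 1) :
    ∃ H : Subgroup G, H.index = 2 := by
  obtain ⟨v₁, hv₁⟩ := ψ₀_ne j
  refine D.index_two_of_count D.sm D.sm_injective D.sm_mul (ψ₀ j) (ψ₀_mul j) v₁ hv₁
    (315 * Fintype.card {v : S32 // ψ₀ j v = true ∧ fl F v = true})
    (by rw [Nat.mul_mod, hj]) ?_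
  have hc : Fintype.card S32 = 32 := by decide +kernel
  rw [hc, ← Nat.card_eq_fintype_card,
    Nat.card_congr (Equiv.subtypeEquivRight fun v => and_congr_right fun _ => D.inF_sm hF v)]
  ring

/-- `tz` fused: one of the pairs `{s, zs}`, `{ts, tzs}` avoids the class. -/
theorem d_lemma {F : Flags} (hF : D.HasFlags F) (hD : F.ftz = true) :
    (F.fs = false ∧ F.fzs = false) ∨ (F.fts = false ∧ F.ftzs = false) := by
  have hd : fl F (sz * st) = true := by
    have h : ∀ F' : Flags, fl F' (sz * st) = F'.ftz := by decide +kernel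
    rw [h, hD]
  obtain ⟨N, hN⟩ := D.exists_nel (by decide +kernel : Cent (sz * st)) ((D.inF_sm hF _).2 hd)
  have key : ∀ v, Cent v → fl F v = true → N.θ v = v → False := fun v hv hfl hfix => by
    have := D.fix_all N hv ((D.inF_sm hF v).2 hfl) hfix (s32_facts.2.2.2.2.1)
    rw [hN] at this
    exact absurd this (by decide +kernel)
  have hf : fl F ss = F.fs ∧ fl F (sz * ss) = F.fzs ∧ fl F (ss * st) = F.fts ∧
      fl F (sz * ss * st) = F.ftzs := by
    clear key hN hd hD hF
    revert F; decide +kernel
  have hc : Cent (sz * ss) ∧ Cent (ss * st) ∧ Cent (sz * ss * st) := by decide +kernel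
  have hs := s32_facts.2.2.2.2.2.2.1
  rcases cent_cases _ (N.θ_cent hs) with h | h | h | h | h | h | h | h
  · exact absurd (N.θ_injective (h.trans N.θ_se.symm)) (by decide +kernel)
  · exact absurd (N.θ_injective (h.trans N.θ_sz.symm)) (by decide +kernel)
  · left
    constructor
    · rw [Bool.eq_false_iff]; intro hh
      exact key _ hs (by rw [hf.1, hh]) h
    · rw [Bool.eq_false_iff]; intro hh
      exact key _ hc.1 (by rw [hf.2.1, hh]) (by rw [N.θ_mul, N.θ_sz, h])
  · right
    constructor
    · rw [Bool.eq_false_iff]; intro hh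
      exact key _ hc.2.1 (by rw [hf.2.2.1, hh])
        (by rw [N.θ_mul, h, hN]; decide +kernel)
    · rw [Bool.eq_false_iff]; intro hh
      exact key _ hc.2.2 (by rw [hf.2.2.2, hh])
        (by rw [N.θ_mul, N.θ_mul, N.θ_sz, h, hN]; decide +kernel)
  all_goals
    exfalso
    have h2 : (N.comp N).θ st = st := by
      rw [NEl.comp_θ, hN, N.θ_mul, N.θ_sz, hN]; decide +kernel
    have h3 := (N.comp N).fix_ss h2
    rw [NEl.comp_θ, h] at h3
    simp only [N.θ_mul, N.θ_sz, h, hN] at h3
    exact absurd h3 (by decide +kernel)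

omit [Finite G] in
theorem s_zs_cent {v : S32} (N : NEl D) (h1 : N.θ st = v) (h2 : N.θ ss = st)
    (hv : v = sz * ss * st) : False := by
  subst hv
  have hx := N.conj' st
  have hy := N.conj' ss
  rw [h1] at hx
  rw [h2] at hy
  rw [D.sm_st] at hx hy
  have hss : D.sm ss = D.κ pS := by rw [ss, D.sm_false, kp_values.2.2.1]
  rw [hss] at hy
  set c := N.n * D.κ swap5 * N.n⁻¹
  have hct : c * D.t = D.t * c := by
    rw [← hy]; simp only [c]
    rw [show N.n * D.κ swap5 * N.n⁻¹ * (N.n * D.κ pS * N.n⁻¹) = N.n * (D.κ swap5 * D.κ pS) * N.n⁻¹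
      by group, ← map_mul, five_facts.1, map_mul]
    group
  have hcx : c * D.sm (sz * ss * st) = D.sm (sz * ss * st) * c := by
    rw [← hx]; simp only [c]
    rw [show N.n * D.κ swap5 * N.n⁻¹ * (N.n * D.t * N.n⁻¹) = N.n * (D.κ swap5 * D.t) * N.n⁻¹
      by group, ← D.comm]
    group
  have hc5 : c ^ 5 = 1 := by
    simp only [c, conj_pow, ← map_pow, five_facts.2.1, map_one]
    group
  obtain ⟨k, hk⟩ := D.cover c hct
  have hk' : c = D.κ k := by
    rcases hk with hk | hk
    · exact hk
    · exfalso
      rw [hk] at hc5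
      have : D.κ (k * k * (k * k) * k) * D.t = 1 := by
        rw [← hc5, pow_succ, show (4 : ℕ) = 2 * 2 from rfl, pow_mul, pow_two, pow_two, D.κ_t_sq,
          ← map_mul, map_mul _ (k * k * (k * k)) k]
        group
      exact D.out (k * k * (k * k) * k)⁻¹ (by rw [map_inv]; exact inv_eq_of_mul_eq_one_right this)
  have e : D.sm (sz * ss * st) = D.κ (pZ * pS) * D.t := by
    rw [show (sz * ss * st : S32) = ⟨kzs, true⟩ by decide +kernel, D.sm_true, kp_values.2.2.2.2.2.1]
  rw [e, hk', show D.κ k * (D.κ (pZ * pS) * D.t) = D.κ (k * (pZ * pS)) * D.t by simp only [map_mul, mul_assoc],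
    show D.κ (pZ * pS) * D.t * D.κ k = D.κ (pZ * pS * k) * D.t by
      rw [map_mul _ (pZ * pS) k, show D.κ (pZ * pS) * D.t * D.κ k
        = D.κ (pZ * pS) * (D.t * D.κ k) by group, D.comm]; group] at hcx
  have hk1 := no_five k (D.inj (mul_right_cancel hcx))
    (D.inj (by rw [map_pow, ← hk', hc5, map_one]))
  rw [hk1, map_one] at hk'
  have : D.κ swap5 = 1 := by
    have := congrArg (fun u => N.n⁻¹ * u * N.n) hk'
    simp only [c] at this
    simpa [mul_assoc] using this
  exact five_facts.2.2 (D.inj (by rw [this, map_one]))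

/-- The same configuration with the other complement. -/
def twist : Data G where
  t := D.t
  κ :=
    { toFun := fun k => if Equiv.Perm.sign k = 1 then D.κ k else D.κ k * D.t
      map_one' := by simp
      map_mul' := fun k m => by
        rcases Int.units_eq_one_or (Equiv.Perm.sign k) with hk | hk <;>
          rcases Int.units_eq_one_or (Equiv.Perm.sign m) with hm | hm <;>
            simp only [map_mul, hk, hm, mul_one, one_mul, Int.units_mul_self, ↓reduceIte,
              show ¬ ((-1 : ℤˣ) = 1) by decide]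
        · group
        · rw [show D.κ k * D.t * D.κ m = D.κ k * (D.t * D.κ m) by group, D.comm]; group
        · rw [show D.κ k * D.t * (D.κ m * D.t) = D.κ k * (D.t * D.κ m) * D.t by group, D.comm,
            show D.κ k * (D.κ m * D.t) * D.t = D.κ k * D.κ m * (D.t * D.t) by group, D.sq, mul_one] }
  inj := by
    rw [injective_iff_map_eq_one]
    intro k hk
    simp only [MonoidHom.coe_mk, OneHom.coe_mk] at hk
    split_ifs at hk with h
    · exact D.inj (by rw [hk, map_one])
    · exact absurd (show D.κ k⁻¹ = D.t by rw [map_inv]; exact inv_eq_of_mul_eq_one_right hk) (D.out _)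
  sq := D.sq
  comm k := by
    simp only [MonoidHom.coe_mk, OneHom.coe_mk]
    split_ifs
    · exact D.comm k
    · rw [← mul_assoc, D.comm]
  cover c hc := by
    obtain ⟨k, hk⟩ := D.cover c hc
    refine ⟨k, ?_⟩
    simp only [MonoidHom.coe_mk, OneHom.coe_mk]
    split_ifs
    · exact hk
    · rw [show D.κ k * D.t * D.t = D.κ k * (D.t * D.t) by group, D.sq, mul_one]
      exact hk.symm
  out k := by
    simp only [MonoidHom.coe_mk, OneHom.coe_mk]
    split_ifs with h
    · exact D.out k
    · intro hk
      have hk1 : D.κ k = 1 := mul_eq_right.1 hk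
      exact h (by rw [D.inj (hk1.trans (map_one D.κ).symm), map_one])

omit [Finite G] in
theorem twist_flags {F : Flags} (hF : D.HasFlags F) :
    D.twist.HasFlags ⟨F.fts, F.ftzs, F.fs, F.fzs, F.ftz⟩ := by
  have h1 : Equiv.Perm.sign pS = -1 ∧ Equiv.Perm.sign (pZ * pS) = -1 ∧ Equiv.Perm.sign pZ = 1 := by
    decide +kernel
  obtain ⟨f1, f2, f3, f4, f5⟩ := hF
  have ht : ∀ k, D.κ k * D.t * D.t = D.κ k := fun k => by
    rw [mul_assoc, D.sq, mul_one]
  simp only [HasFlags, InF, twist, MonoidHom.coe_mk, OneHom.coe_mk, h1.1, h1.2.1, h1.2.2,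
    show ¬ ((-1 : ℤˣ) = 1) by decide, ↓reduceIte, ht]
  exact ⟨f3, f4, f1, f2, f5⟩

theorem reduce {F : Flags} (hF : D.HasFlags F) :
    (∃ H : Subgroup G, H.index = 2) ∨ D.HasFlags Fα ∨ D.HasFlags Fβ ∨ D.twist.HasFlags Fβ := by
  rcases stage_one_cases F with ⟨j, hj⟩ | ⟨hD, h1, h2⟩ | ⟨hD, h⟩
  · exact Or.inl (D.stage_one hF j hj)
  · exfalso
    obtain ⟨hA, hB, ga1, ga2, gb1, gb2, nca, ncb⟩ := gamma_facts
    -- the four configurations without `tz`
    have mixed : ∀ D' : Data G, D'.HasFlags ⟨true, false, false, true, false⟩ → False := by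
      intro D' hF'
      obtain ⟨N, hN⟩ := D'.exists_nel (by decide +kernel : Cent (sz * ss * st))
        ((D'.inF_sm hF' _).2 (by decide +kernel))
      have hcx : N.θ (sz * ss * st) = ss := by
        have hfl := N.fl_eq hF' (sz * ss * st)
        have hne : N.θ (sz * ss * st) ≠ sz * ss * st := fun h => by
          have := D'.fix_all N (by decide +kernel) ((D'.inF_sm hF' _).2 (by decide +kernel)) h
            s32_facts.2.2.2.2.1
          rw [hN] at this
          exact absurd this (by decide +kernel)
        have hne2 : N.θ (sz * ss * st) ≠ st := fun h => by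
          have h2 : (N.comp N).θ st = st := by rw [NEl.comp_θ, hN, h]
          have h3 : (N.comp N).θ ss = ss := (N.comp N).fix_ss h2
          have h4 : N.θ ss = ss := by
            have hc := N.θ_cent s32_facts.2.2.2.2.2.2.1
            have hf := N.fl_eq hF' ss
            revert hc hf h3
            rw [NEl.comp_θ]
            generalize hu : N.θ ss = u
            intro h3 hc hf
            rcases cent_cases u hc with e | e | e | e | e | e | e | e <;> subst e
            all_goals first
              | rfl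
              | exact absurd hf (by decide +kernel)
              | (simp only [N.θ_mul, N.θ_sz, hN, hu] at h3; exact absurd h3 (by decide +kernel))
          have := D'.fix_all N (by decide +kernel) ((D'.inF_sm hF' ss).2 (by decide +kernel)) h4
            s32_facts.2.2.2.2.1
          rw [hN] at this
          exact absurd this (by decide +kernel)
        have key : ∀ u : S32, Cent u → fl ⟨true, false, false, true, false⟩ u = true →
            u = st ∨ u = ss ∨ u = sz * ss * st := by decide +kernel
        rcases key _ (N.θ_cent (by decide +kernel)) (hfl.trans (by decide +kernel)) with e | e | e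
        · exact absurd e hne2
        · exact e
        · exact absurd e hne
      have hts : N.θ ss = st := by
        have h0 := hcx
        rw [N.θ_mul, N.θ_mul, N.θ_sz, hN] at h0
        revert h0
        generalize hu : N.θ ss = u
        intro h0
        have key : ∀ u : S32, sz * u * (sz * ss * st) = ss → u = st := by decide +kernel
        exact key u h0
      exact D'.s_zs_cent N hN hts rfl
    obtain ⟨fs, fzs, fts, ftzs, ftz⟩ := F
    simp only at hD h1 h2
    subst hD
    cases fs <;> cases fzs <;> simp at h1 <;> cases fts <;> cases ftzs <;> simp at h2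
    · -- zs, tzs
      obtain ⟨N, hN⟩ := D.exists_nel (by decide +kernel : Cent (sz * ss))
        ((D.inF_sm hF _).2 (by decide +kernel))
      have h3 := N.fl_eq hF (st * (sg * ss))
      rw [N.θ_mul, hN, hB _ (D.not_cent_of_θ N ncb) ((N.fl_eq hF _).trans gb2), gb1] at h3
      exact Bool.noConfusion h3
    · -- zs, ts
      exact mixed _ (D.twist_flags hF)
    · -- s, tzs
      exact mixed D hF
    · -- s, ts
      obtain ⟨N, hN⟩ := D.exists_nel s32_facts.2.2.2.2.2.2.1
        ((D.inF_sm hF _).2 (by decide +kernel))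
      have h3 := N.fl_eq hF (st * sa)
      rw [N.θ_mul, hN, hA _ (D.not_cent_of_θ N nca) ((N.fl_eq hF _).trans ga2), ga1] at h3
      exact Bool.noConfusion h3
  · rcases h with h | h | h | ⟨h1, h2⟩
    · exact Or.inr (Or.inl (h ▸ hF))
    · exact Or.inr (Or.inr (Or.inl (h ▸ hF)))
    · subst h; exact Or.inr (Or.inr (Or.inr (D.twist_flags hF)))
    · rcases D.d_lemma hF hD with ⟨a, b⟩ | ⟨a, b⟩
      · rw [a, b] at h1; exact Bool.noConfusion h1
      · rw [a, b] at h2; exact Bool.noConfusion h2

end Data

end Cfsg.Agent.X4S75
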