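import Mathlib.GroupTheory.Perm.Cycle.Type
import Mathlib.GroupTheory.Coset.Card
import Mathlib.GroupTheory.GroupAction.Quotient
import Mathlib.GroupTheory.Index
import Mathlib.Algebra.GroupWithZero.Units.Fintype
import Mathlib.Tactic.Linarith

/-!
A transfer-type criterion for a subgroup of index two: an involution `t`, a subgroup given by a
model `f : α → G` with a character `ψ`, and the parity of the number of conjugates of `t` in the
non-trivial coset of `ker ψ`.
-/

namespace Cfsg.Agent.X4S75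

variable {G : Type*} [Group G] [Finite G]

omit [Finite G] in
theorem card_fixed_mul (t : G) (H : Subgroup G) :
    Nat.card {q : G ⧸ H // t • q = q} * Nat.card H =
      Nat.card (Subgroup.centralizer ({t} : Set G)) * Nat.card {x : G // x ∈ H ∧ IsConj t x} := by
  classical
  have hfix : ∀ g : G, t • (g : G ⧸ H) = (g : G ⧸ H) ↔ g⁻¹ * t * g ∈ H := by
    intro g
    rw [MulAction.Quotient.smul_coe, smul_eq_mul, eq_comm, QuotientGroup.eq, ← mul_assoc]
  let X : Type _ := {g : G // g⁻¹ * t * g ∈ H}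
  have h1 : Nat.card X = Nat.card {q : G ⧸ H // t • q = q} * Nat.card H := by
    have e := QuotientGroup.preimageMkEquivSubgroupProdSet H {q : G ⧸ H | t • q = q}
    have e2 : X ≃ ↥(QuotientGroup.mk ⁻¹' {q : G ⧸ H | t • q = q}) :=
      Equiv.subtypeEquivRight fun g => (hfix g).symm
    rw [Nat.card_congr (e2.trans e), Nat.card_prod, mul_comm]
    rfl
  have h2 : Nat.card X =
      Nat.card (Subgroup.centralizer ({t} : Set G)) * Nat.card {x : G // x ∈ H ∧ IsConj t x} := by
    let π : X → {x : G // x ∈ H ∧ IsConj t x} := fun g =>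
      ⟨g.1⁻¹ * t * g.1, g.2, isConj_iff.2 ⟨g.1⁻¹, by group⟩⟩
    have hf : ∀ x, Nonempty ({g : X // π g = x} ≃ Subgroup.centralizer ({t} : Set G)) := by
      intro x
      obtain ⟨c, hc⟩ := isConj_iff.1 x.2.2
      refine ⟨⟨fun g => ⟨g.1.1 * c, ?_⟩, fun m => ⟨⟨m.1 * c⁻¹, ?_⟩, ?_⟩, ?_, ?_⟩⟩
      · have hg : g.1.1⁻¹ * t * g.1.1 = c * t * c⁻¹ := by
          rw [hc]; exact congrArg Subtype.val g.2
        rw [Subgroup.mem_centralizer_singleton_iff]
        calc g.1.1 * c * t = g.1.1 * (c * t * c⁻¹) * c := by group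
          _ = t * (g.1.1 * c) := by rw [← hg]; group
      · have hm : (m : G) * t = t * m := Subgroup.mem_centralizer_singleton_iff.1 m.2
        have : ((m : G) * c⁻¹)⁻¹ * t * (m * c⁻¹) = c * t * c⁻¹ := by
          rw [show ((m : G) * c⁻¹)⁻¹ * t * (m * c⁻¹) = c * ((m : G)⁻¹ * (t * m)) * c⁻¹ by group, ← hm]
          group
        rw [this, hc]
        exact x.2.1
      · have hm : (m : G) * t = t * m := Subgroup.mem_centralizer_singleton_iff.1 m.2
        apply Subtype.ext
        change ((m : G) * c⁻¹)⁻¹ * t * (m * c⁻¹) = x.1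
        rw [← hc, show ((m : G) * c⁻¹)⁻¹ * t * (m * c⁻¹) = c * ((m : G)⁻¹ * (t * m)) * c⁻¹ by group,
          ← hm]
        group
      · intro g
        apply Subtype.ext; apply Subtype.ext; simp
      · intro m
        apply Subtype.ext; simp
    let e : X ≃ Subgroup.centralizer ({t} : Set G) × {x : G // x ∈ H ∧ IsConj t x} :=
      ((Equiv.sigmaFiberEquiv π).symm.trans (Equiv.sigmaCongrRight fun x => (hf x).some)).trans
        ((Equiv.sigmaEquivProd _ _).trans (Equiv.prodComm _ _))
    rw [Nat.card_congr e, Nat.card_prod]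
  rw [← h1, h2]

omit [Finite G] in
theorem exists_index_two_of_sign {X : Type*} [Finite X] [MulAction G X] (t : G) (ht : t * t = 1)
    (h : (Nat.card X - Nat.card {q : X // t • q = q}) / 2 % 2 = 1) :
    ∃ H : Subgroup G, H.index = 2 := by
  classical
  have := Fintype.ofFinite X
  let φ : G →* ℤˣ := Equiv.Perm.sign.comp (MulAction.toPermHom G X)
  have h2 : (MulAction.toPermHom G X t) ^ 2 = 1 := by
    rw [← map_pow, pow_two, ht, map_one]
  have hφ : φ t = -1 := by
    change Equiv.Perm.sign (MulAction.toPermHom G X t) = -1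
    rw [Equiv.Perm.sign_of_pow_two_eq_one h2]
    apply Odd.neg_one_pow
    rw [Nat.odd_iff]
    have : Fintype.card (Function.fixedPoints ⇑(MulAction.toPermHom G X t)) =
        Nat.card {q : X // t • q = q} := by
      rw [Nat.card_eq_fintype_card]
      exact Fintype.card_congr (Equiv.subtypeEquivRight fun q => Iff.rfl)
    rw [this, ← Nat.card_eq_fintype_card]
    exact h
  refine ⟨φ.ker, ?_⟩
  rw [Subgroup.index_ker]
  have hs : φ.range = ⊤ := by
    rw [eq_top_iff]
    intro u _
    rcases Int.units_eq_one_or u with hu | hu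
    · exact ⟨1, by rw [map_one, hu]⟩
    · exact ⟨t, by rw [hφ, hu]⟩
  rw [hs, Subgroup.card_top, Nat.card_eq_fintype_card]
  rfl

/-- The subgroup criterion. -/
theorem exists_index_two_of_subgroups (t : G) (ht : t * t = 1) (M M₀ : Subgroup G) (hle : M₀ ≤ M)
    (hcard : Nat.card M = 2 * Nat.card M₀) (N : ℕ) (hN : N % 2 = 1)
    (h : Nat.card (Subgroup.centralizer ({t} : Set G)) *
      Nat.card {x : G // (x ∈ M ∧ x ∉ M₀) ∧ IsConj t x} = N * Nat.card M) :
    ∃ H : Subgroup G, H.index = 2 := by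
  classical
  have := Fintype.ofFinite G
  apply exists_index_two_of_sign (X := G ⧸ M₀) t ht
  have hM0 : 0 < Nat.card M₀ := Nat.card_pos
  set c := Nat.card (Subgroup.centralizer ({t} : Set G))
  set fx := Nat.card {q : G ⧸ M₀ // t • q = q}
  set fy := Nat.card {q : G ⧸ M // t • q = q}
  have e0 : fx * Nat.card M₀ = c * Nat.card {x : G // x ∈ M₀ ∧ IsConj t x} := card_fixed_mul t M₀
  have e1 : fy * Nat.card M = c * Nat.card {x : G // x ∈ M ∧ IsConj t x} := card_fixed_mul t M
  have hsplit : Nat.card {x : G // x ∈ M ∧ IsConj t x} =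
      Nat.card {x : G // x ∈ M₀ ∧ IsConj t x} +
        Nat.card {x : G // (x ∈ M ∧ x ∉ M₀) ∧ IsConj t x} := by
    rw [← Nat.card_sum]
    let P : {x : G // x ∈ M ∧ IsConj t x} → Prop := fun x => x.1 ∈ M₀
    have e := (Equiv.sumCompl P).symm
    refine Nat.card_congr (e.trans (Equiv.sumCongr ?_ ?_))
    · exact ⟨fun x => ⟨x.1.1, x.2, x.1.2.2⟩, fun x => ⟨⟨x.1, hle x.2.1, x.2.2⟩, x.2.1⟩,
        fun _ => rfl, fun _ => rfl⟩
    · exact ⟨fun x => ⟨x.1.1, ⟨x.1.2.1, x.2⟩, x.1.2.2⟩,
        fun x => ⟨⟨x.1, x.2.1.1, x.2.2⟩, x.2.1.2⟩, fun _ => rfl, fun _ => rfl⟩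
  have hfy : fx + 2 * N = 2 * fy := by
    apply Nat.eq_of_mul_eq_mul_right hM0
    have : fy * Nat.card M = fx * Nat.card M₀ + N * Nat.card M := by
      rw [e1, e0, ← h, hsplit, mul_add]
    rw [hcard] at this
    linarith
  have hY : Nat.card (G ⧸ M₀) = 2 * Nat.card (G ⧸ M) := by
    apply Nat.eq_of_mul_eq_mul_right hM0
    have a := Subgroup.card_eq_card_quotient_mul_card_subgroup M₀
    have b := Subgroup.card_eq_card_quotient_mul_card_subgroup M
    rw [hcard] at b
    linarith
  have hev : fy ≡ Nat.card (G ⧸ M) [MOD 2] := by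
    have h2 : (MulAction.toPermHom G (G ⧸ M) t) ^ (2 : ℕ) ^ 1 = 1 := by
      rw [← map_pow, pow_one, pow_two, ht, map_one]
    have := Equiv.Perm.card_compl_support_modEq h2
    rw [← Nat.card_eq_fintype_card] at this
    refine Nat.ModEq.trans ?_ this
    have hc : fy = (MulAction.toPermHom G (G ⧸ M) t).supportᶜ.card := by
      simp only [fy, Nat.card_eq_fintype_card]
      refine (Fintype.card_congr ?_).trans (Fintype.card_coe _)
      exact Equiv.subtypeEquivRight fun q => by simp
    rw [hc]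
  have hle' : fy ≤ Nat.card (G ⧸ M) := Finite.card_subtype_le _
  have hge : N ≤ fy := by omega
  have hev' : fy % 2 = Nat.card (G ⧸ M) % 2 := hev
  omega

/-- The criterion for a subgroup given by a model: an injective map `f` from a finite type with a
multiplication which it respects, and a character `ψ` of the model. -/
theorem exists_index_two_of_model (t : G) (ht : t * t = 1) {α : Type*} [Fintype α] [Mul α]
    (f : α → G) (hinj : Function.Injective f) (hmul : ∀ v w, f (v * w) = f v * f w)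
    (ψ : α → Bool) (hψ : ∀ v w, ψ (v * w) = Bool.xor (ψ v) (ψ w)) (v₁ : α) (hv₁ : ψ v₁ = true)
    (N : ℕ) (hN : N % 2 = 1)
    (h : Nat.card (Subgroup.centralizer ({t} : Set G)) *
      Nat.card {v : α // ψ v = true ∧ IsConj t (f v)} = N * Fintype.card α) :
    ∃ H : Subgroup G, H.index = 2 := by
  classical
  let S : Set G := Set.range f
  have hne : S.Nonempty := ⟨f v₁, v₁, rfl⟩
  have hcl : ∀ a ∈ S, ∀ b ∈ S, a * b ∈ S := by
    rintro _ ⟨v, rfl⟩ _ ⟨w, rfl⟩; exact ⟨v * w, hmul v w⟩
  have hmem : ∀ a ∈ S, ∀ n : ℕ, a ^ (n + 1) ∈ S := by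
    intro a ha n
    induction n with
    | zero => simpa using ha
    | succ k ih => rw [pow_succ]; exact hcl _ ih _ ha
  have hinv : ∀ a ∈ S, a⁻¹ ∈ S := by
    intro a ha
    have h1 := pow_orderOf_eq_one a
    have h0 : 0 < orderOf a := orderOf_pos a
    have hx : a⁻¹ = a ^ (2 * orderOf a - 1) := by
      apply inv_eq_of_mul_eq_one_right
      rw [← pow_succ', show 2 * orderOf a - 1 + 1 = orderOf a * 2 by omega, pow_mul, h1, one_pow]
    rw [hx, show 2 * orderOf a - 1 = (2 * orderOf a - 2) + 1 by omega]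
    exact hmem a ha _
  have hone : (1 : G) ∈ S := by
    obtain ⟨a, ha⟩ := hne
    rw [← mul_inv_cancel a]
    exact hcl _ ha _ (hinv a ha)
  let M : Subgroup G :=
    { carrier := S, one_mem' := hone, mul_mem' := fun ha hb => hcl _ ha _ hb,
      inv_mem' := fun ha => hinv _ ha }
  obtain ⟨e, he⟩ : ∃ e, f e = 1 := hone
  have hψe : ψ e = false := by
    have h1 : e * e = e := hinj (by rw [hmul, he, mul_one])
    have h2 := hψ e e
    rw [h1] at h2
    cases hh : ψ e <;> simp_all
  let M₀ : Subgroup G :=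
    { carrier := f '' {v | ψ v = false}
      one_mem' := ⟨e, hψe, he⟩
      mul_mem' := by
        rintro _ _ ⟨v, hv, rfl⟩ ⟨w, hw, rfl⟩
        exact ⟨v * w, by simp only [Set.mem_ofPred_eq] at hv hw ⊢; rw [hψ, hv, hw]; rfl, hmul v w⟩
      inv_mem' := by
        rintro _ ⟨v, hv, rfl⟩
        obtain ⟨w, hw⟩ := hinv (f v) ⟨v, rfl⟩
        refine ⟨w, ?_, hw⟩
        have hvw : v * w = e := hinj (by rw [hmul, hw, he, mul_inv_cancel])
        have h2 := hψ v w
        simp only [Set.mem_ofPred_eq] at hv ⊢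
        rw [hvw, hψe, hv] at h2
        cases hh : ψ w
        · rfl
        · rw [hh] at h2; exact Bool.noConfusion h2 }
  have hM : Nat.card M = Fintype.card α := by
    rw [← Nat.card_eq_fintype_card]
    exact Nat.card_congr (Equiv.ofInjective f hinj).symm
  have hM₀ : Nat.card M₀ = Nat.card {v : α // ψ v = false} :=
    Nat.card_congr (Equiv.Set.image f _ hinj).symm
  have hflip : Nat.card {v : α // ψ v = true} = Nat.card {v : α // ψ v = false} := by
    have h1 : Nat.card {v : α // ψ v = true} ≤ Nat.card {v : α // ψ v = false} :=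
      Nat.card_le_card_of_injective (fun v => ⟨v₁ * v.1, by rw [hψ, hv₁, v.2]; rfl⟩) (by
        intro v w hvw
        have := congrArg (fun u => f u.1) hvw
        simp only [hmul, mul_right_inj] at this
        exact Subtype.ext (hinj this))
    have h2 : Nat.card {v : α // ψ v = false} ≤ Nat.card {v : α // ψ v = true} :=
      Nat.card_le_card_of_injective (fun v => ⟨v₁ * v.1, by rw [hψ, hv₁, v.2]; rfl⟩) (by
        intro v w hvw
        have := congrArg (fun u => f u.1) hvw
        simp only [hmul, mul_right_inj] at this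
        exact Subtype.ext (hinj this))
    omega
  refine exists_index_two_of_subgroups t ht M M₀ (by rintro _ ⟨v, -, rfl⟩; exact ⟨v, rfl⟩) ?_ N hN ?_
  · rw [hM, hM₀, ← Nat.card_eq_fintype_card]
    have : Nat.card α = Nat.card {v : α // ψ v = true} + Nat.card {v : α // ψ v = false} := by
      rw [← Nat.card_sum]
      exact Nat.card_congr ((Equiv.sumCompl fun v => ψ v = true).symm.trans
        (Equiv.sumCongr (Equiv.refl _) (Equiv.subtypeEquivRight fun v => by simp)))
    omega
  · rw [hM, ← h]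
    congr 1
    refine (Nat.card_congr (Equiv.ofBijective (fun v : {v : α // ψ v = true ∧ IsConj t (f v)} =>
      (⟨f v.1, ⟨⟨v.1, rfl⟩, ?_⟩, v.2.2⟩ : {x : G // (x ∈ M ∧ x ∉ M₀) ∧ IsConj t x})) ⟨?_, ?_⟩)).symm
    · rintro ⟨w, hw, hwv⟩
      rw [Set.mem_ofPred_eq, hinj hwv, v.2.1] at hw
      exact Bool.noConfusion hw
    · intro v w hvw
      exact Subtype.ext (hinj (congrArg Subtype.val hvw))
    · rintro ⟨x, ⟨⟨v, rfl⟩, hx⟩, hc⟩
      refine ⟨⟨v, ?_, hc⟩, rfl⟩
      cases hh : ψ v
      · exact absurd ⟨v, hh, rfl⟩ hx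
      · rfl

end Cfsg.Agent.X4S75
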