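import Cfsg.Agent.X4S75.Points
import Cfsg.Agent.X4S75.SignCount
import Mathlib.GroupTheory.Sylow

/-!
The involution `t` with centralizer `⟨t⟩ × S₇`, the model `S32` of a Sylow 2-subgroup of it and
the flags describing which of its involutions are conjugate to `t`.
-/

namespace Cfsg.Agent.X4S75

/-- The model of `⟨t⟩ × ⟨z, s⟩⟨a, g⟩`: pairs of a `K4` and the exponent of `t`. -/
abbrev S32 := Ext K4 id k0

/-- An involution with centralizer `⟨t⟩ × S₇`. -/
structure Data (G : Type*) [Group G] where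
  /-- the involution -/
  t : G
  /-- the complement -/
  κ : K →* G
  inj : Function.Injective κ
  sq : t * t = 1
  comm : ∀ k, t * κ k = κ k * t
  cover : ∀ c, c * t = t * c → ∃ k, c = κ k ∨ c = κ k * t
  out : ∀ k, κ k ≠ t

/-- The five flags: which of `s, zs, ts, tzs, tz` are conjugate to `t`. -/
structure Flags where
  fs : Bool
  fzs : Bool
  fts : Bool
  ftzs : Bool
  ftz : Bool
deriving DecidableEq, Fintype

/-- The class of a model involution: `1` for transpositions, `2` for double ones, `3` for triple. -/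
def cls (v : K4) : ℕ :=
  if v.g then (if v.a then 0 else if v.s then 3 else 2)
  else (if Bool.xor v.z v.a then 1 else 0) + (if v.z then 1 else 0) + (if v.s then 1 else 0)

/-- Whether the element of the model is conjugate to `t`, in terms of the flags. -/
def fl (F : Flags) (v : S32) : Bool :=
  if v.i then
    (v.v == k0) || (cls v.v == 1 && F.fts) || (cls v.v == 2 && F.ftz) || (cls v.v == 3 && F.ftzs)
  else (cls v.v == 1 && F.fs) || (cls v.v == 3 && F.fzs)

theorem cls_spec : ∀ v : K4, (v * v = k0 → v ≠ k0 →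
      (cls v = 1 ∧ nMoved (kp v) = 2) ∨ (cls v = 2 ∧ nMoved (kp v) = 4) ∨
        (cls v = 3 ∧ nMoved (kp v) = 6)) ∧ (cls v = 1 → v * v = k0 ∧ v ≠ k0) ∧
      (cls v = 2 → v * v = k0 ∧ v ≠ k0) ∧ (cls v = 3 → v * v = k0 ∧ v ≠ k0) := by
  decide +kernel

theorem nMoved_eq (k : K) : nMoved k = k.support.card := by
  rw [nMoved, ← List.toFinset_card_of_nodup ((List.nodup_finRange 7).filter _)]
  congr 1
  ext i
  simp

theorem nMoved_of_isConj {k k' : K} (h : IsConj k k') : nMoved k = nMoved k' := by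
  rw [nMoved_eq, nMoved_eq, ← Equiv.Perm.sum_cycleType, ← Equiv.Perm.sum_cycleType,
    Equiv.Perm.isConj_iff_cycleType_eq.1 h]

theorem isConj_of_nMoved {k k' : K} (h : k * k = 1) (h' : k' * k' = 1)
    (he : nMoved k = nMoved k') : IsConj k k' := by
  rw [Equiv.Perm.isConj_iff_cycleType_eq]
  have e := Equiv.Perm.cycleType_of_pow_prime_eq_one (p := 2) (σ := k) (by rw [pow_two, h])
  have e' := Equiv.Perm.cycleType_of_pow_prime_eq_one (p := 2) (σ := k') (by rw [pow_two, h'])
  rw [nMoved_eq, nMoved_eq, ← Equiv.Perm.sum_cycleType, ← Equiv.Perm.sum_cycleType, e, e',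
    Multiset.sum_replicate, Multiset.sum_replicate] at he
  rw [e, e', show k.cycleType.card = k'.cycleType.card by simpa using he]

namespace Data

variable {G : Type*} [Group G] (D : Data G)

/-- Conjugate to `t`. -/
def InF (x : G) : Prop := IsConj D.t x

theorem inF_t : D.InF D.t := IsConj.refl _

theorem inF_conj {x : G} (g : G) (h : D.InF x) : D.InF (g * x * g⁻¹) :=
  h.trans (isConj_iff.2 ⟨g, rfl⟩)

theorem inF_conj_iff (x g : G) : D.InF (g * x * g⁻¹) ↔ D.InF x :=
  ⟨fun h => by have := D.inF_conj g⁻¹ h; simpa [mul_assoc] using this, D.inF_conj g⟩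

theorem inF_sq {x : G} (h : D.InF x) : x * x = 1 := by
  obtain ⟨g, rfl⟩ := isConj_iff.1 h
  rw [show g * D.t * g⁻¹ * (g * D.t * g⁻¹) = g * (D.t * D.t) * g⁻¹ by group, D.sq]
  group

theorem not_inF_one : ¬ D.InF 1 := by
  intro h
  obtain ⟨g, hg⟩ := isConj_iff.1 h
  have : D.t = 1 := by
    have := congrArg (fun u => g⁻¹ * u * g) hg
    simpa [mul_assoc] using this
  exact D.out 1 (by rw [map_one, this])

theorem κ_t_sq (k : K) : D.κ k * D.t * (D.κ k * D.t) = D.κ (k * k) := by
  rw [show D.κ k * D.t * (D.κ k * D.t) = D.κ k * (D.t * D.κ k) * D.t by group, D.comm, map_mul,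
    show D.κ k * (D.κ k * D.t) * D.t = D.κ k * D.κ k * (D.t * D.t) by group, D.sq, mul_one]

/-- A square of an element of the complement is not conjugate to `t`. -/
theorem not_inF_square (h : K) : ¬ D.InF (D.κ (h * h)) := by
  intro hc
  obtain ⟨g, hg⟩ := isConj_iff.1 hc
  set y := g⁻¹ * D.κ h * g
  have hy : y * y = D.t := by
    have := congrArg (fun u => g⁻¹ * u * g) hg
    simp only [map_mul] at this
    rw [show y * y = g⁻¹ * (D.κ h * D.κ h) * g by simp only [y]; group, ← this]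
    group
  obtain ⟨k, hk⟩ := D.cover y (by rw [← hy]; group)
  rcases hk with hk | hk <;> rw [hk] at hy
  · rw [← map_mul] at hy; exact D.out _ hy
  · rw [D.κ_t_sq] at hy; exact D.out _ hy

theorem isConj_κ {c : G} (hc : c * D.t = D.t * c) {k k' : K} (h : c * D.κ k * c⁻¹ = D.κ k') :
    IsConj k k' := by
  obtain ⟨m, hm⟩ := D.cover c hc
  have hm' : D.κ (m * k * m⁻¹) = c * D.κ k * c⁻¹ := by
    rcases hm with rfl | rfl
    · simp [map_mul, map_inv]
    · rw [map_mul, map_mul, map_inv, mul_inv_rev,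
        show D.κ m * D.t * D.κ k * (D.t⁻¹ * (D.κ m)⁻¹) =
          D.κ m * (D.t * D.κ k) * D.t⁻¹ * (D.κ m)⁻¹ by group, D.comm]
      group
  exact isConj_iff.2 ⟨m, D.inj (hm'.trans h)⟩

theorem inF_κ_congr {k k' : K} (h : IsConj k k') : D.InF (D.κ k) ↔ D.InF (D.κ k') := by
  obtain ⟨m, rfl⟩ := isConj_iff.1 h
  rw [map_mul, map_mul, map_inv, D.inF_conj_iff]

theorem inF_κt_congr {k k' : K} (h : IsConj k k') :
    D.InF (D.κ k * D.t) ↔ D.InF (D.κ k' * D.t) := by
  obtain ⟨m, rfl⟩ := isConj_iff.1 h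
  have : D.κ (m * k * m⁻¹) * D.t = D.κ m * (D.κ k * D.t) * (D.κ m)⁻¹ := by
    rw [map_mul, map_mul, map_inv]
    have h1 : (D.κ m)⁻¹ * D.t = D.t * (D.κ m)⁻¹ := by
      rw [← map_inv]; exact (D.comm _).symm
    rw [show D.κ m * D.κ k * (D.κ m)⁻¹ * D.t = D.κ m * D.κ k * ((D.κ m)⁻¹ * D.t) by group, h1]
    group
  rw [this, D.inF_conj_iff]

/-- The elements of the Sylow 2-subgroup. -/
def sm : S32 → G := Ext.toG (fun v => D.κ (kp v)) D.t

theorem sm_mul (v w : S32) : D.sm (v * w) = D.sm v * D.sm w :=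
  Ext.toG_mul (fun a b => by rw [kp_mul, map_mul]) (fun a => D.comm _)
    (by rw [D.sq, kp_values.1, map_one]) v w

theorem sm_injective : Function.Injective D.sm :=
  Ext.toG_injective (D.inj.comp kp_injective) fun v w h => D.out ((kp v)⁻¹ * kp w) (by
    rw [map_mul, map_inv, ← h]; group)

theorem sm_false (v : K4) : D.sm ⟨v, false⟩ = D.κ (kp v) := by simp [sm, Ext.toG]

theorem sm_true (v : K4) : D.sm ⟨v, true⟩ = D.κ (kp v) * D.t := by simp [sm, Ext.toG]

/-- The flags of the configuration are `F`. -/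
def HasFlags (F : Flags) : Prop :=
  (D.InF (D.κ pS) ↔ F.fs = true) ∧ (D.InF (D.κ (pZ * pS)) ↔ F.fzs = true) ∧
    (D.InF (D.κ pS * D.t) ↔ F.fts = true) ∧ (D.InF (D.κ (pZ * pS) * D.t) ↔ F.ftzs = true) ∧
    (D.InF (D.κ pZ * D.t) ↔ F.ftz = true)

theorem exists_flags : ∃ F, D.HasFlags F := by
  classical
  exact ⟨⟨decide (D.InF (D.κ pS)), decide (D.InF (D.κ (pZ * pS))), decide (D.InF (D.κ pS * D.t)),
    decide (D.InF (D.κ (pZ * pS) * D.t)), decide (D.InF (D.κ pZ * D.t))⟩,
    by simp [HasFlags]⟩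

theorem inF_sm {F : Flags} (hF : D.HasFlags F) (v : S32) : D.InF (D.sm v) ↔ fl F v = true := by
  obtain ⟨h1, h2, h3, h4, h5⟩ := hF
  obtain ⟨v, i⟩ := v
  obtain ⟨hcl, hc1, hc2, hc3⟩ := cls_spec v
  have hsq : ∀ w : K4, w * w = k0 → kp w * kp w = 1 := fun w hw => by
    rw [← kp_mul, hw, kp_values.1]
  have hS : pS * pS = 1 ∧ pZ * pZ = 1 ∧ pZ * pS * (pZ * pS) = 1 := by decide +kernel
  by_cases hv : v * v = k0 ∧ v ≠ k0
  · rcases hcl hv.1 hv.2 with ⟨hc, hn⟩ | ⟨hc, hn⟩ | ⟨hc, hn⟩
    · have hconj : IsConj (kp v) pS :=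
        isConj_of_nMoved (hsq v hv.1) hS.1 (hn.trans nMoved_values.1.symm)
      cases i
      · rw [sm_false, D.inF_κ_congr hconj, h1]; simp [fl, hc]
      · rw [sm_true, D.inF_κt_congr hconj, h3]; simp [fl, hc, hv.2]
    · have hconj : IsConj (kp v) pZ :=
        isConj_of_nMoved (hsq v hv.1) hS.2.1 (hn.trans nMoved_values.2.1.symm)
      cases i
      · rw [sm_false, D.inF_κ_congr hconj]
        have : pZ = pA * pG * (pA * pG) := by decide +kernel
        simp only [fl, hc, Bool.false_eq_true, ↓reduceIte]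
        simp only [this, D.not_inF_square, false_iff]
        simp
      · rw [sm_true, D.inF_κt_congr hconj, h5]; simp [fl, hc, hv.2]
    · have hconj : IsConj (kp v) (pZ * pS) :=
        isConj_of_nMoved (hsq v hv.1) hS.2.2 (hn.trans nMoved_values.2.2.symm)
      cases i
      · rw [sm_false, D.inF_κ_congr hconj, h2]; simp [fl, hc]
      · rw [sm_true, D.inF_κt_congr hconj, h4]; simp [fl, hc, hv.2]
  · have e1 : ¬ cls v = 1 := fun h => hv (hc1 h)
    have e2 : ¬ cls v = 2 := fun h => hv (hc2 h)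
    have e3 : ¬ cls v = 3 := fun h => hv (hc3 h)
    by_cases h0 : v = k0
    · subst h0
      cases i
      · rw [sm_false, kp_values.1, map_one]; simp [fl, e1, e3, D.not_inF_one]
      · rw [sm_true, kp_values.1, map_one, one_mul]; simp [fl, D.inF_t]
    · have hne : v * v ≠ k0 := fun h => hv ⟨h, h0⟩
      have hk : kp v * kp v ≠ 1 := by
        rw [← kp_mul, ← kp_values.1]; exact fun h => hne (kp_injective h)
      cases i
      · rw [sm_false]
        have hh : ¬ D.InF (D.κ (kp v)) := fun h =>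
          hk (D.inj (by rw [map_one, map_mul]; exact D.inF_sq h))
        simp [fl, e1, e3, hh]
      · rw [sm_true]
        have hh : ¬ D.InF (D.κ (kp v) * D.t) := fun h =>
          hk (D.inj (by rw [map_one, ← D.κ_t_sq]; exact D.inF_sq h))
        simp [fl, e1, e2, e3, h0, hh]

theorem card_centralizer [Finite G] :
    Nat.card (Subgroup.centralizer ({D.t} : Set G)) = 10080 := by
  have e : (K × Bool) ≃ Subgroup.centralizer ({D.t} : Set G) :=
    Equiv.ofBijective (fun p => ⟨D.κ p.1 * (if p.2 then D.t else 1), by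
      rw [Subgroup.mem_centralizer_singleton_iff]
      cases p.2 <;> simp [← mul_assoc, D.comm]⟩) ⟨by
      rintro ⟨k, i⟩ ⟨m, j⟩ h
      have h := congrArg Subtype.val h
      cases i <;> cases j <;> simp at h
      · rw [D.inj h]
      · exact absurd (show D.κ (m⁻¹ * k) = D.t by rw [map_mul, map_inv, h]; group) (D.out _)
      · exact absurd (show D.κ (k⁻¹ * m) = D.t by rw [map_mul, map_inv, ← h]; group) (D.out _)
      · rw [D.inj h], by
      rintro ⟨c, hc⟩
      obtain ⟨k, hk | hk⟩ := D.cover c (Subgroup.mem_centralizer_singleton_iff.1 hc)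
      · exact ⟨(k, false), by simp [hk]⟩
      · exact ⟨(k, true), by simp [hk]⟩⟩
  rw [← Nat.card_congr e, Nat.card_prod, Nat.card_eq_fintype_card, Fintype.card_perm,
    Nat.card_eq_fintype_card]
  decide +kernel

end Data

end Cfsg.Agent.X4S75
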