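import Cfsg.Agent.X4S75.Reduce
import Cfsg.Agent.X4S75.CommCard

/-!
General tools for the normalising elements: inner ones, generators, transport of centralizers.
-/

namespace Cfsg.Agent.X4S75

theorem decomp : ∀ v : S32, v = (if v.v.z then sz else se) * (if v.v.s then ss else se) *
    (if v.v.a then sa else se) * (if v.v.g then sg else se) * (if v.i then st else se) := by
  decide +kernel

theorem inner_facts : (∀ v w : S32, v * w * (v * v * v) * v = v * w) ∧
    (∀ w : S32, st * w * (st * st * st) = w) ∧ (∀ w : S32, ss * w * (ss * ss * ss) = w) := by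
  decide +kernel

namespace Data

variable {G : Type*} [Group G] (D : Data G)

/-- The inner normalising elements. -/
def inner (v : S32) : NEl D where
  n := D.sm v
  θ w := v * w * (v * v * v)
  conj w := by rw [← D.sm_mul, ← D.sm_mul, inner_facts.1]

theorem sm_k (v : K4) : D.sm ⟨v, false⟩ = D.κ (kp v) := D.sm_false v

theorem sm_z : D.sm sz = D.κ pZ := by rw [sz, D.sm_false, kp_values.2.1]
theorem sm_s : D.sm ss = D.κ pS := by rw [ss, D.sm_false, kp_values.2.2.1]
theorem sm_a : D.sm sa = D.κ pA := by rw [sa, D.sm_false, kp_values.2.2.2.1]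
theorem sm_g : D.sm sg = D.κ pG := by rw [sg, D.sm_false, kp_values.2.2.2.2.1]

theorem commute_κ_t (k : K) : Commute (D.κ k) D.t := (D.comm k).symm

theorem commute_κ_sm (k : K) (v : K4) (i : Bool) (h : Commute k (kp v)) :
    Commute (D.κ k) (D.sm ⟨v, i⟩) := by
  cases i
  · rw [sm_false]; exact h.map D.κ
  · rw [sm_true]; exact (h.map D.κ).mul_right (D.commute_κ_t k)

theorem commute_of_κ {k : K} {v : K4} {i : Bool} (h : Commute (D.κ k) (D.sm ⟨v, i⟩)) :
    Commute k (kp v) := by
  have h' : Commute (D.κ k) (D.κ (kp v)) := by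
    cases i
    · rwa [sm_false] at h
    · rw [sm_true] at h
      have := h.mul_right (D.commute_κ_t k)
      rwa [mul_assoc, D.sq, mul_one] at this
  exact D.inj (by rw [map_mul, map_mul]; exact h'.eq)

/-- An element of order three in the centralizer lies in the complement. -/
theorem cube_mem {c : G} (hc : Commute c D.t) (h3 : c * c * c = 1) :
    ∃ k, c = D.κ k ∧ k * k * k = 1 := by
  obtain ⟨k, hk | hk⟩ := D.cover c hc.eq
  · exact ⟨k, hk, D.inj (by rw [map_mul, map_mul, map_one, ← hk, h3])⟩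
  · exfalso
    rw [hk, D.κ_t_sq, ← mul_assoc, ← map_mul] at h3
    exact D.out (k * k * k)⁻¹ (by rw [map_inv]; exact inv_eq_of_mul_eq_one_right h3)

theorem inF_congr_model {α : Type} [Mul α] (f : α → G) (hmul : ∀ v w, f (v * w) = f v * f w)
    {v w u : α} (h : v * u = u * w) : D.InF (f v) ↔ D.InF (f w) := by
  have : f v = f u * f w * (f u)⁻¹ := by
    rw [← hmul, ← h, hmul]; group
  rw [this, D.inF_conj_iff]

end Data

namespace NEl

variable {G : Type*} [Group G] {D : Data G} (N : NEl D)

theorem commute_conj {x : G} {v : S32} (h : Commute x (D.sm v)) :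
    Commute (N.n * x * N.n⁻¹) (D.sm (N.θ v)) := by
  rw [← N.conj']; exact h.conj N.n

theorem θ_eq_of_gens (φ : S32 → S32) (hφ : ∀ v w, φ (v * w) = φ v * φ w) (he : φ se = se)
    (hz : φ sz = sz) (hs : N.θ ss = φ ss) (ha : N.θ sa = φ sa) (hg : N.θ sg = φ sg)
    (ht : N.θ st = φ st) (v : S32) : N.θ v = φ v := by
  rw [decomp v]
  simp only [N.θ_mul, hφ]
  congr 1
  · congr 1
    · congr 1
      · congr 1
        · split <;> simp [he, hz, N.θ_se, N.θ_sz]
        · split <;> simp [he, hs, N.θ_se]
      · split <;> simp [he, ha, N.θ_se]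
    · split <;> simp [he, hg, N.θ_se]
  · split <;> simp [he, ht, N.θ_se]

theorem conj_cube {x : G} (h : x * x * x = 1) :
    N.n * x * N.n⁻¹ * (N.n * x * N.n⁻¹) * (N.n * x * N.n⁻¹) = 1 := by
  rw [show N.n * x * N.n⁻¹ * (N.n * x * N.n⁻¹) * (N.n * x * N.n⁻¹) = N.n * (x * x * x) * N.n⁻¹
    by group, h]
  group

end NEl

end Cfsg.Agent.X4S75
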